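import Mathlib

set_option autoImplicit false
set_option linter.style.haveILetI false

namespace Cfsg.Agent.Helper95.S22

/-- transport of linear automorphisms along a linear equivalence -/
noncomputable def autC3sqConj {R V W : Type*} [Semiring R] [AddCommMonoid V] [AddCommMonoid W]
    [Module R V] [Module R W] (e : V ≃ₗ[R] W) : (V ≃ₗ[R] V) ≃ (W ≃ₗ[R] W) where
  toFun f := (e.symm.trans f).trans e
  invFun g := (e.trans g).trans e.symm
  left_inv f := by
    ext x
    simp
  right_inv g := by
    ext x
    simp

/-- additive automorphisms of a `ZMod n`-module are linear -/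
noncomputable def autC3sqLin (n : ℕ) (V : Type*) [AddCommGroup V] [Module (ZMod n) V] :
    (V ≃+ V) ≃ (V ≃ₗ[ZMod n] V) where
  toFun f := f.toLinearEquiv (fun c x => ZMod.map_smul f c x)
  invFun g := g.toAddEquiv
  left_inv f := by
    ext x
    rfl
  right_inv g := by
    ext x
    rfl

theorem card_mulAut_of_comm_exp_three {P : Type*} [CommGroup P] [Finite P]
    (h9 : Nat.card P = 9) (hexp : ∀ x : P, x ^ 3 = 1) : Nat.card (MulAut P) = 48 := by
  haveI : Fact (Nat.Prime 3) := ⟨Nat.prime_three⟩
  letI : Module (ZMod 3) (Additive P) := AddCommGroup.zmodModule (n := 3) (by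
    intro x
    exact congrArg Additive.ofMul (hexp x.toMul))
  haveI : Finite (Additive P) := inferInstanceAs (Finite P)
  have hfr : Module.finrank (ZMod 3) (Additive P) = 2 := by
    have h := Module.natCard_eq_pow_finrank (K := ZMod 3) (V := Additive P)
    have h9' : Nat.card (Additive P) = 9 := h9
    rw [h9', Nat.card_zmod] at h
    have h2 : (3 : ℕ) ^ 2 = 3 ^ Module.finrank (ZMod 3) (Additive P) := by
      rw [← h]
      norm_num
    exact (Nat.pow_right_injective (a := 3) (by norm_num) h2).symm
  let b := Module.finBasisOfFinrankEq (ZMod 3) (Additive P) hfr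
  have e1 : MulAut P ≃ (Additive P ≃+ Additive P) := MulEquiv.toAdditive
  have e2 := autC3sqLin 3 (Additive P)
  have e3 := autC3sqConj b.equivFun
  have e4 := (LinearMap.GeneralLinearGroup.generalLinearEquiv (ZMod 3) (Fin 2 → ZMod 3)).symm.toEquiv
  have e5 := (Matrix.GeneralLinearGroup.toLin (n := Fin 2) (R := ZMod 3)).symm.toEquiv
  rw [Nat.card_congr ((((e1.trans e2).trans e3).trans e4).trans e5), Matrix.card_GL_field]
  simp [Fin.prod_univ_two, ZMod.card]

/-- `|Aut(C_3 × C_3)| = |GL_2(3)| = 48` -/
theorem card_mulAut_of_card_nine {P : Type*} [Group P] [Finite P] (h9 : Nat.card P = 9)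
    (hnc : ¬ IsCyclic P) : Nat.card (MulAut P) = 48 := by
  haveI : Fact (Nat.Prime 3) := ⟨Nat.prime_three⟩
  have hexp : ∀ x : P, x ^ 3 = 1 := by
    intro x
    have h1 : orderOf x ∣ 9 := h9 ▸ orderOf_dvd_natCard x
    have h2 : orderOf x ≠ 9 := fun h => hnc (isCyclic_of_orderOf_eq_card x (h.trans h9.symm))
    have h3 : orderOf x ∣ 3 := by
      have h4 : orderOf x ∈ Nat.divisors 9 := Nat.mem_divisors.2 ⟨h1, by norm_num⟩
      have hd : Nat.divisors 9 = {1, 3, 9} := by decide
      rw [hd] at h4
      simp only [Finset.mem_insert, Finset.mem_singleton] at h4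
      rcases h4 with h | h | h
      · rw [h]; norm_num
      · rw [h]
      · exact absurd h h2
    exact orderOf_dvd_iff_pow_eq_one.1 h3
  have hcomm : ∀ a b : P, a * b = b * a := by
    have h9' : Nat.card P = 3 ^ 2 := by rw [h9]; norm_num
    intro a b
    haveI := IsPGroup.isMulCommutative_of_card_eq_prime_sq h9'
    exact mul_comm' a b
  letI : CommGroup P := { (inferInstance : Group P) with mul_comm := hcomm }
  exact card_mulAut_of_comm_exp_three h9 hexp

end Cfsg.Agent.Helper95.S22
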