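import Cfsg.Agent.Helper95.S22.Defs

set_option autoImplicit false
set_option linter.unusedSectionVars false

open scoped Classical Pointwise

namespace Cfsg.Agent.Helper95.S22

open Cfsg.Agent.Helper70.Syl

variable {G : Type*} [Group G] [Finite G]

theorem Adj.ne {α β : Sylow 3 G} (h : Adj α β) : α ≠ β := by
  rintro rfl
  unfold Adj at h
  rw [inf_idem] at h
  have := Nat.card_pos (α := (α : Subgroup G))
  omega

theorem Far.ne {α β : Sylow 3 G} (h : Far α β) : α ≠ β := by
  rintro rfl
  unfold Far at h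
  rw [inf_idem] at h
  have := Nat.card_pos (α := (α : Subgroup G))
  omega

theorem Adj.symm {α β : Sylow 3 G} (h : Adj α β) : Adj β α := by
  unfold Adj at h ⊢
  rw [inf_comm, h]
  exact card_sylow_eq α β

theorem Far.symm {α β : Sylow 3 G} (h : Far α β) : Far β α := by
  unfold Far at h ⊢
  rw [inf_comm, h]
  exact card_sylow_eq α β

theorem not_adj_of_far {α β : Sylow 3 G} (h : Far α β) : ¬ Adj α β := by
  intro h'
  unfold Far at h
  unfold Adj at h'
  have := Nat.card_pos (α := ((α : Subgroup G) ⊓ β : Subgroup G))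
  omega

/-- the stabilizer of the point `β` in `α` is `α ⊓ β` -/
theorem stabilizer_eq (α β : Sylow 3 G) :
    MulAction.stabilizer (α : Subgroup G) β =
      ((α : Subgroup G) ⊓ β).subgroupOf (α : Subgroup G) := by
  ext g
  rw [MulAction.mem_stabilizer_iff, Subgroup.smul_def, Sylow.smul_eq_iff_mem_normalizer,
    Subgroup.mem_subgroupOf, ← α.isPGroup'.inf_normalizer_sylow β, Subgroup.mem_inf]
  exact ⟨fun h => ⟨g.2, h⟩, fun h => h.2⟩

/-- the orbit of `β` under `α` has `|α : α ⊓ β|` elements -/
theorem card_orbit_mul (α β : Sylow 3 G) :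
    Nat.card (MulAction.orbit (α : Subgroup G) β) *
      Nat.card ((α : Subgroup G) ⊓ β : Subgroup G) = Nat.card (α : Subgroup G) := by
  have hidx := MulAction.index_stabilizer (α : Subgroup G) β
  rw [stabilizer_eq] at hidx
  have h1 := Subgroup.card_mul_index (((α : Subgroup G) ⊓ β).subgroupOf (α : Subgroup G))
  rw [hidx, Nat.card_congr (Subgroup.subgroupOfEquivOfLe
    (inf_le_left : (α : Subgroup G) ⊓ β ≤ α)).toEquiv] at h1
  rw [mul_comm]
  exact h1

theorem card_orbit_of_adj {α β : Sylow 3 G} (h : Adj α β) :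
    Nat.card (MulAction.orbit (α : Subgroup G) β) = 3 := by
  have h1 := card_orbit_mul α β
  unfold Adj at h
  rw [← h, mul_comm] at h1
  exact Nat.eq_of_mul_eq_mul_left Nat.card_pos h1

theorem card_orbit_of_far {α β : Sylow 3 G} (h : Far α β) :
    Nat.card (MulAction.orbit (α : Subgroup G) β) = 9 := by
  have h1 := card_orbit_mul α β
  unfold Far at h
  rw [← h, mul_comm] at h1
  exact Nat.eq_of_mul_eq_mul_left Nat.card_pos h1

/-- `P_α`-orbits on the other `21` points have size `3` or `9` -/
theorem adj_or_far (h22 : Nat.card (Sylow 3 G) = 22) {α β : Sylow 3 G} (hne : α ≠ β) :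
    Adj α β ∨ Far α β := by
  have h1 := card_orbit_mul α β
  set n := Nat.card (MulAction.orbit (α : Subgroup G) β) with hn
  have hle : n ≤ 22 := by
    rw [← h22, hn]
    exact Nat.card_le_card_of_injective _ Subtype.val_injective
  -- `n` is a power of `3`
  have hidx := MulAction.index_stabilizer (α : Subgroup G) β
  obtain ⟨j, hj⟩ := α.isPGroup'.index (MulAction.stabilizer (α : Subgroup G) β)
  rw [hidx] at hj
  have hn' : n = 3 ^ j := by rw [hn, ← hj]; rfl
  have hj0 : j ≠ 0 := by
    rintro rfl
    rw [pow_zero] at hn'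
    rw [hn'] at h1
    apply hne
    have hle' : (α : Subgroup G) ≤ β := by
      have : (α : Subgroup G) ⊓ β = α := by
        apply Subgroup.eq_of_le_of_card_ge inf_le_left
        omega
      rw [← this]
      exact inf_le_right
    exact Sylow.ext (α.is_maximal' β.isPGroup' hle').symm
  have hj3 : j < 3 := by
    by_contra hcon
    push Not at hcon
    have : 3 ^ 3 ≤ 3 ^ j := Nat.pow_le_pow_right (by norm_num) hcon
    omega
  have hj12 : j = 1 ∨ j = 2 := by omega
  rcases hj12 with rfl | rfl
  · left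
    unfold Adj
    rw [← h1, hn']
    ring
  · right
    unfold Far
    rw [← h1, hn']
    ring

theorem smul_inf_card (g : G) (α β : Sylow 3 G) :
    Nat.card (((g • α : Sylow 3 G) : Subgroup G) ⊓ (g • β : Sylow 3 G) : Subgroup G) =
      Nat.card ((α : Subgroup G) ⊓ β : Subgroup G) := by
  rw [Sylow.coe_subgroup_smul, Sylow.coe_subgroup_smul, ← Subgroup.smul_inf]
  exact Nat.card_congr (Subgroup.equivSMul (MulAut.conj g) _).symm.toEquiv

theorem adj_smul_iff (g : G) {α β : Sylow 3 G} : Adj (g • α) (g • β) ↔ Adj α β := by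
  unfold Adj
  rw [smul_inf_card, card_sylow_eq (g • α) α]

theorem far_smul_iff (g : G) {α β : Sylow 3 G} : Far (g • α) (g • β) ↔ Far α β := by
  unfold Far
  rw [smul_inf_card, card_sylow_eq (g • α) α]

/-- an element of `α` fixing the point `γ` lies in `γ` -/
theorem mem_of_smul_eq {α γ : Sylow 3 G} {g : G} (hg : g ∈ (α : Subgroup G)) (h : g • γ = γ) :
    g ∈ (γ : Subgroup G) := by
  rw [Sylow.smul_eq_iff_mem_normalizer] at h
  have h2 : g ∈ (α : Subgroup G) ⊓ (γ : Subgroup G) := by
    rw [← α.isPGroup'.inf_normalizer_sylow γ]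
    exact ⟨hg, h⟩
  exact h2.2

/-- `α ⊓ β` is normalized by `α` when `α β` are adjacent -/
theorem le_normalizer_of_adj {α β : Sylow 3 G} (h : Adj α β) :
    (α : Subgroup G) ≤ Subgroup.normalizer (((α : Subgroup G) ⊓ β : Subgroup G) : Set G) :=
  le_normalizer_of_card_mul α _ inf_le_left h

end Cfsg.Agent.Helper95.S22
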