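import Cfsg.Agent.Helper95.S22.Basic

set_option autoImplicit false
set_option linter.unusedSectionVars false
set_option linter.style.haveILetI false

open scoped Classical Pointwise

namespace Cfsg.Agent.Helper95.S22

open Cfsg.Agent.Helper70.Syl

variable {G : Type*} [Group G] [Finite G]

/-- an invariant finite set all of whose orbits have `d` elements has a multiple of `d` elements -/
theorem dvd_card_of_orbit_card (H : Subgroup G) (d : ℕ) :
    ∀ A : Finset (Sylow 3 G), (∀ g ∈ H, ∀ β ∈ A, g • β ∈ A) →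
      (∀ β ∈ A, Nat.card (MulAction.orbit H β) = d) → d ∣ A.card := by
  intro A
  induction A using Finset.strongInduction with
  | H A ih =>
    intro hinv horb
    rcases A.eq_empty_or_nonempty with rfl | ⟨β, hβ⟩
    · simp
    · have hOfin : (MulAction.orbit H β).Finite := Set.toFinite _
      set O : Finset (Sylow 3 G) := hOfin.toFinset with hO
      have hmemO : ∀ γ, γ ∈ O ↔ γ ∈ MulAction.orbit H β := fun γ => hOfin.mem_toFinset
      have hOA : O ⊆ A := by
        intro γ hγ
        obtain ⟨h, rfl⟩ := (hmemO γ).mp hγ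
        exact hinv h h.2 β hβ
      have hβO : β ∈ O := (hmemO β).mpr (MulAction.mem_orbit_self β)
      have hOcard : O.card = d := by
        rw [← horb β hβ, ← Set.ncard_eq_toFinset_card _ hOfin]
        exact (Nat.card_coe_set_eq _).symm
      have hlt : A \ O ⊂ A := by
        refine Finset.ssubset_iff_subset_ne.mpr ⟨Finset.sdiff_subset, ?_⟩
        intro heq
        have : β ∈ A \ O := by rw [heq]; exact hβ
        exact (Finset.mem_sdiff.mp this).2 hβO
      have hinv' : ∀ g ∈ H, ∀ γ ∈ A \ O, g • γ ∈ A \ O := by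
        intro g hg γ hγ
        rw [Finset.mem_sdiff] at hγ ⊢
        refine ⟨hinv g hg γ hγ.1, ?_⟩
        intro hgO
        apply hγ.2
        obtain ⟨h, hh⟩ := (hmemO _).mp hgO
        rw [hmemO]
        refine ⟨⟨g, hg⟩⁻¹ * h, ?_⟩
        show (⟨g, hg⟩⁻¹ * h : H) • β = γ
        rw [mul_smul]
        have : (h • β : Sylow 3 G) = g • γ := hh
        rw [this]
        show (⟨g, hg⟩ : H)⁻¹ • (g • γ) = γ
        have h2 : (g • γ : Sylow 3 G) = (⟨g, hg⟩ : H) • γ := rfl
        rw [h2, inv_smul_smul]
      have horb' : ∀ γ ∈ A \ O, Nat.card (MulAction.orbit H γ) = d :=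
        fun γ hγ => horb γ (Finset.mem_sdiff.mp hγ).1
      have h1 := ih (A \ O) hlt hinv' horb'
      have h2 : (A \ O).card + O.card = A.card := Finset.card_sdiff_add_card_eq_card hOA
      rw [← h2, hOcard]
      exact Dvd.dvd.add h1 (dvd_refl d)

theorem smul_self_of_mem {α : Sylow 3 G} {g : G} (hg : g ∈ (α : Subgroup G)) : g • α = α :=
  Sylow.smul_eq_iff_mem_normalizer.mpr (Subgroup.le_normalizer hg)

theorem nbr_invariant (α : Sylow 3 G) : ∀ g ∈ (α : Subgroup G), ∀ β ∈ nbr α, g • β ∈ nbr α := by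
  intro g hg β hβ
  rw [mem_nbr] at hβ ⊢
  have := (adj_smul_iff g (α := α) (β := β)).mpr hβ
  rwa [smul_self_of_mem hg] at this

theorem farSet_invariant (α : Sylow 3 G) :
    ∀ g ∈ (α : Subgroup G), ∀ β ∈ farSet α, g • β ∈ farSet α := by
  intro g hg β hβ
  rw [mem_farSet] at hβ ⊢
  have := (far_smul_iff g (α := α) (β := β)).mpr hβ
  rwa [smul_self_of_mem hg] at this

/-- the numbers of neighbours and of far points of `α` -/
theorem card_nbr_cases (h22 : Nat.card (Sylow 3 G) = 22) (α : Sylow 3 G) :
    ((nbr α).card = 21 ∧ (farSet α).card = 0) ∨ ((nbr α).card = 12 ∧ (farSet α).card = 9) ∨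
      ((nbr α).card = 3 ∧ (farSet α).card = 18) := by
  haveI : Fintype (Sylow 3 G) := Fintype.ofFinite _
  have h3 : 3 ∣ (nbr α).card :=
    dvd_card_of_orbit_card (α : Subgroup G) 3 (nbr α) (nbr_invariant α)
      (fun β hβ => card_orbit_of_adj (mem_nbr.mp hβ))
  have h9 : 9 ∣ (farSet α).card :=
    dvd_card_of_orbit_card (α : Subgroup G) 9 (farSet α) (farSet_invariant α)
      (fun β hβ => card_orbit_of_far (mem_farSet.mp hβ))
  have hdisj : Disjoint (nbr α) (farSet α) := by
    rw [Finset.disjoint_left]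
    intro β hβ hβ'
    exact not_adj_of_far (mem_farSet.mp hβ') (mem_nbr.mp hβ)
  have hα : α ∉ nbr α ∪ farSet α := by
    rw [Finset.mem_union]
    rintro (h | h)
    · exact (mem_nbr.mp h).ne rfl
    · exact (mem_farSet.mp h).ne rfl
  have huniv : insert α (nbr α ∪ farSet α) = Finset.univ := by
    ext β
    simp only [Finset.mem_insert, Finset.mem_union, Finset.mem_univ, iff_true]
    by_cases hne : β = α
    · exact Or.inl hne
    · right
      rcases adj_or_far h22 (Ne.symm hne) with h | h
      · exact Or.inl (mem_nbr.mpr h)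
      · exact Or.inr (mem_farSet.mpr h)
  have hcard : (nbr α).card + (farSet α).card + 1 = 22 := by
    rw [← h22, Nat.card_eq_fintype_card, ← Finset.card_univ, ← huniv,
      Finset.card_insert_of_notMem hα, Finset.card_union_of_disjoint hdisj]
  obtain ⟨x, hx⟩ := h3
  obtain ⟨y, hy⟩ := h9
  rw [hx, hy] at hcard ⊢
  have hy2 : y ≤ 2 := by omega
  interval_cases y <;> omega

/-- by transitivity all points have the same number of neighbours -/
theorem card_nbr_eq (α α' : Sylow 3 G) : (nbr α).card = (nbr α').card := by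
  obtain ⟨g, rfl⟩ := MulAction.exists_smul_eq G α α'
  have h : nbr (g • α) = (nbr α).image (fun β => g • β) := by
    ext β
    rw [Finset.mem_image, mem_nbr]
    constructor
    · intro hβ
      refine ⟨g⁻¹ • β, ?_, smul_inv_smul g β⟩
      rw [mem_nbr]
      have := (adj_smul_iff g⁻¹ (α := g • α) (β := β)).mpr hβ
      rwa [inv_smul_smul] at this
    · rintro ⟨γ, hγ, rfl⟩
      exact (adj_smul_iff g).mpr (mem_nbr.mp hγ)
  rw [h, Finset.card_image_of_injective _ (MulAction.injective g)]

/-- if `α` has exactly `9` far points they form a single `α`-orbit -/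
theorem exists_smul_eq_of_far (α : Sylow 3 G) (h9 : (farSet α).card = 9) {β β' : Sylow 3 G}
    (hβ : Far α β) (hβ' : Far α β') : ∃ g ∈ (α : Subgroup G), g • β = β' := by
  have hOfin : (MulAction.orbit (α : Subgroup G) β).Finite := Set.toFinite _
  have hsub : hOfin.toFinset ⊆ farSet α := by
    intro γ hγ
    obtain ⟨h, rfl⟩ := hOfin.mem_toFinset.mp hγ
    exact farSet_invariant α h h.2 β (mem_farSet.mpr hβ)
  have hcard : hOfin.toFinset.card = 9 := by
    rw [← card_orbit_of_far hβ, ← Set.ncard_eq_toFinset_card _ hOfin]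
    exact (Nat.card_coe_set_eq _).symm
  have heq : hOfin.toFinset = farSet α :=
    Finset.eq_of_subset_of_card_le hsub (by rw [h9, hcard])
  have : β' ∈ hOfin.toFinset := by rw [heq]; exact mem_farSet.mpr hβ'
  obtain ⟨h, hh⟩ := hOfin.mem_toFinset.mp this
  exact ⟨h, h.2, hh⟩

end Cfsg.Agent.Helper95.S22
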