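import Cfsg.Agent.Helper95.S22.Lines
import Cfsg.Agent.Helper95.S22.Count

set_option autoImplicit false
set_option linter.unusedSectionVars false

open scoped Classical Pointwise

namespace Cfsg.Agent.Helper95.S22

open Cfsg.Agent.Helper70.Syl

variable {G : Type*} [Group G] [Finite G]

/-- `farSet` is equivariant -/
theorem claim3_farSet_smul (g : G) (δ : Sylow 3 G) : farSet (g • δ) = g • farSet δ := by
  ext x
  rw [mem_farSet, Finset.mem_smul_finset]
  constructor
  · intro h
    refine ⟨g⁻¹ • x, ?_, by rw [smul_inv_smul]⟩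
    rw [mem_farSet, ← far_smul_iff g, smul_inv_smul]
    exact h
  · rintro ⟨y, hy, rfl⟩
    rw [far_smul_iff]
    exact mem_farSet.mp hy

/-- the equivariant map `δ ↦ farSet δ` -/
noncomputable def claim3_farSetHom (G : Type*) [Group G] [Finite G] :
    Sylow 3 G →ₑ[@id G] Finset (Sylow 3 G) where
  toFun := farSet
  map_smul' := fun g δ => claim3_farSet_smul g δ

/-- (Claim 3) in case (B), every line through `α` carries a neighbour of every point far from `α` -/
theorem exists_adj_on_line [IsSimpleGroup G] (hB : CaseB G) {α β γ : Sylow 3 G} (hf : Far α β)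
    (h1 : Adj α γ) : ∃ γ' ∈ line α γ, γ' ≠ α ∧ Adj β γ' := by
  by_contra hcon
  push Not at hcon
  let _ : Fintype (Sylow 3 G) := Fintype.ofFinite _
  -- no point of the line (other than `α`) is adjacent to a point far from `α`
  have hno : ∀ β' : Sylow 3 G, Far α β' → ∀ γ' ∈ line α γ, γ' ≠ α → ¬ Adj β' γ' := by
    intro β' hβ' γ' hγ' hγ'α hadj
    obtain ⟨g, hg, rfl⟩ := exists_smul_eq_of_far α (hB.far α) hf hβ'
    have hginv : g⁻¹ ∈ (α : Subgroup G) := Subgroup.inv_mem _ hg
    have h2 : Adj β (g⁻¹ • γ') := by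
      have := (adj_smul_iff g⁻¹ (α := g • β) (β := γ')).mpr hadj
      rwa [inv_smul_smul] at this
    refine hcon (g⁻¹ • γ') (smul_mem_line h1 hginv hγ') ?_ h2
    intro h3
    apply hγ'α
    have : γ' = g • α := by rw [← h3, smul_inv_smul]
    rw [this, smul_self_of_mem hg]
  -- `farSet α = farSet γ`
  have hγα : γ ≠ α := h1.ne.symm
  have hsub : farSet α ⊆ farSet γ := by
    intro β' hβ'
    rw [mem_farSet] at hβ' ⊢
    have hne : γ ≠ β' := by
      rintro rfl
      exact not_adj_of_far hβ' h1
    rcases adj_or_far hB.h22 hne with h | h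
    · exact absurd h.symm (hno β' hβ' γ (right_mem_line α γ) hγα)
    · exact h
  have heq : farSet γ = farSet α := by
    symm
    apply Finset.eq_of_subset_of_card_le hsub
    rw [hB.far α, hB.far γ]
  -- the block
  set B : Finset (Sylow 3 G) := Finset.univ.filter (fun δ => farSet δ = farSet α) with hBdef
  have hmemB : ∀ δ, δ ∈ B ↔ farSet δ = farSet α := fun δ => by
    rw [hBdef, Finset.mem_filter]; simp
  have hαB : α ∈ B := (hmemB α).mpr rfl
  have hγB : γ ∈ B := (hmemB γ).mpr heq
  have hBset : (B : Set (Sylow 3 G)) = (claim3_farSetHom G) ⁻¹' {farSet α} := by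
    ext δ
    rw [Finset.mem_coe, hmemB]
    rfl
  have hblock : MulAction.IsBlock G (B : Set (Sylow 3 G)) := by
    rw [hBset]
    exact MulAction.IsBlock.preimage (claim3_farSetHom G) MulAction.IsBlock.singleton
  have hdvd : B.card ∣ 22 := by
    have := hblock.ncard_dvd_card ⟨α, hαB⟩
    rwa [Set.ncard_coe_finset, hB.h22] at this
  have hinv : ∀ g ∈ α, ∀ R ∈ B, g • R ∈ B := by
    intro g hg R hR
    rw [hmemB] at hR ⊢
    rw [claim3_farSet_smul, hR, ← claim3_farSet_smul, smul_self_of_mem hg]
  have hmod := card_modEq_of_invariant α B hinv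
  rw [if_pos hαB] at hmod
  have h2 : 2 ≤ B.card := by
    have : ({γ, α} : Finset (Sylow 3 G)) ⊆ B := by
      intro x hx
      rw [Finset.mem_insert, Finset.mem_singleton] at hx
      rcases hx with rfl | rfl
      · exact hγB
      · exact hαB
    have := Finset.card_le_card this
    rwa [Finset.card_pair hγα] at this
  have h22 : B.card = 22 := by
    have hle : B.card ≤ 22 := Nat.le_of_dvd (by norm_num) hdvd
    unfold Nat.ModEq at hmod
    interval_cases h : B.card <;> simp_all
  have hBuniv : B = Finset.univ := by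
    rw [← Finset.card_eq_iff_eq_univ, h22, ← Nat.card_eq_fintype_card, hB.h22]
  have hβB : β ∈ B := by rw [hBuniv]; exact Finset.mem_univ β
  have hββ : β ∈ farSet β := by
    rw [(hmemB β).mp hβB, mem_farSet]; exact hf
  exact (mem_farSet.mp hββ).ne rfl

end Cfsg.Agent.Helper95.S22
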