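import Cfsg.Agent.Helper95.S22.Claim1
import Cfsg.Agent.Helper95.S22.Claim3
import Cfsg.Agent.Helper67.CyclicSub

set_option autoImplicit false
set_option linter.unusedSectionVars false

open scoped Classical Pointwise

namespace Cfsg.Agent.Helper95.S22

open Cfsg.Agent.Helper70.Syl

variable {G : Type*} [Group G] [Finite G]

/-- in case (B), the intersection of `P` with a far point lies in the intersection of `P` with
any neighbour -/
theorem caseB_inf_far_le_inf_adj [IsSimpleGroup G] (hB : CaseB G) {P b c : Sylow 3 G}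
    (hf : Far P b) (hc : Adj P c) :
    (P : Subgroup G) ⊓ b ≤ (P : Subgroup G) ⊓ c := by
  obtain ⟨γ', hγ', hγ'P, hadj⟩ := exists_adj_on_line hB hf hc
  have hPγ' : Adj P γ' := adj_of_mem_line hc (left_mem_line P c) hγ' (Ne.symm hγ'P)
  have hle : (P : Subgroup G) ⊓ b ≤ γ' := inf_le_of_far_of_adj hf hPγ' hadj
  have heq : (P : Subgroup G) ⊓ γ' = (P : Subgroup G) ⊓ c :=
    inf_eq_of_mem_line hc (left_mem_line P c) hγ' (Ne.symm hγ'P)
  rw [← heq]
  exact le_inf inf_le_left hle

/-- in case (B) the Sylow `3`-subgroups are elementary abelian of order `9` -/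
theorem caseB_card [IsSimpleGroup G] (hB : CaseB G) (P : Sylow 3 G) :
    Nat.card (P : Subgroup G) = 9 ∧ ¬ IsCyclic (P : Subgroup G) := by
  letI : Fintype (Sylow 3 G) := Fintype.ofFinite _
  have hnbr := hB.nbr P
  obtain ⟨c1, hc1⟩ : (nbr P).Nonempty := by
    rw [← Finset.card_pos, hnbr]; norm_num
  have h1 : Adj P c1 := mem_nbr.mp hc1
  obtain ⟨c2, hc2, hc2l⟩ : ∃ c2 ∈ nbr P, c2 ∉ line P c1 := by
    by_contra hcon
    push Not at hcon
    have hsub : nbr P ⊆ line P c1 := hcon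
    have := Finset.card_le_card hsub
    rw [hnbr, hB.line4 P c1 h1] at this
    omega
  have h2 : Adj P c2 := mem_nbr.mp hc2
  obtain ⟨b, hb⟩ : (farSet P).Nonempty := by
    rw [← Finset.card_pos, hB.far P]; norm_num
  have hf : Far P b := mem_farSet.mp hb
  obtain ⟨D1, hD1⟩ : ∃ D1 : Subgroup G, D1 = (P : Subgroup G) ⊓ c1 := ⟨_, rfl⟩
  obtain ⟨D2, hD2⟩ : ∃ D2 : Subgroup G, D2 = (P : Subgroup G) ⊓ c2 := ⟨_, rfl⟩
  have hD1P : D1 ≤ P := by rw [hD1]; exact inf_le_left
  have hD2P : D2 ≤ P := by rw [hD2]; exact inf_le_left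
  have hD12 : D1 ≠ D2 := by
    intro h
    apply hc2l
    rw [mem_line, ← hD1, h, hD2]
    exact inf_le_right
  have hcD1 : Nat.card D1 * 3 = Nat.card (P : Subgroup G) := by rw [hD1]; exact h1
  have hcD2 : Nat.card D2 * 3 = Nat.card (P : Subgroup G) := by rw [hD2]; exact h2
  have hPpos : 0 < Nat.card (P : Subgroup G) := Nat.card_pos
  -- `D1 ⊓ D2` has index at least `9`
  have hlt : Nat.card (D1 ⊓ D2 : Subgroup G) * 9 ≤ Nat.card (P : Subgroup G) := by
    have hdvd : Nat.card (D1 ⊓ D2 : Subgroup G) ∣ Nat.card D1 :=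
      Subgroup.card_dvd_of_le inf_le_left
    have hne : Nat.card (D1 ⊓ D2 : Subgroup G) ≠ Nat.card D1 := by
      intro h
      have h3 : D1 ⊓ D2 = D1 := Subgroup.eq_of_le_of_card_ge inf_le_left (le_of_eq h.symm)
      have hle : D1 ≤ D2 := inf_eq_left.mp h3
      exact hD12 (Subgroup.eq_of_le_of_card_ge hle (by omega))
    have hpD1 : IsPGroup 3 D1 := P.isPGroup'.to_le hD1P
    obtain ⟨n, hn⟩ := IsPGroup.iff_card.mp hpD1
    rw [hn] at hdvd hne
    obtain ⟨m, hm, hmeq⟩ := (Nat.dvd_prime_pow Nat.prime_three).mp hdvd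
    have hmn : m < n := by
      rcases Nat.lt_or_ge m n with h | h
      · exact h
      · exfalso
        apply hne
        rw [hmeq, le_antisymm hm h]
    have h3 : 3 ^ (m + 1) ≤ 3 ^ n := Nat.pow_le_pow_right (by norm_num) hmn
    rw [pow_succ] at h3
    rw [hmeq, ← hcD1, hn]
    omega
  -- the intersection with a far point is `D1 ⊓ D2`
  have hfar : ∀ b' : Sylow 3 G, Far P b' → (P : Subgroup G) ⊓ b' = D1 ⊓ D2 := by
    intro b' hf'
    have hle : (P : Subgroup G) ⊓ b' ≤ D1 ⊓ D2 := by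
      apply le_inf
      · rw [hD1]; exact caseB_inf_far_le_inf_adj hB hf' h1
      · rw [hD2]; exact caseB_inf_far_le_inf_adj hB hf' h2
    apply Subgroup.eq_of_le_of_card_ge hle
    have h9 : Nat.card ((P : Subgroup G) ⊓ b' : Subgroup G) * 9 = Nat.card (P : Subgroup G) := hf'
    omega
  -- `D1 ⊓ D2` lies in every point
  have hall : ∀ R : Sylow 3 G, D1 ⊓ D2 ≤ R := by
    intro R
    by_cases hR : P = R
    · subst hR
      exact inf_le_left.trans hD1P
    rcases adj_or_far hB.h22 hR with h | h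
    · rw [← hfar b hf]
      exact (caseB_inf_far_le_inf_adj hB hf h).trans inf_le_right
    · rw [← hfar R h]
      exact inf_le_right
  have hbot : D1 ⊓ D2 = ⊥ :=
    eq_bot_of_forall_le (p := 3) (by rw [hB.h22]; norm_num) (D1 ⊓ D2) hall
  have hcard : Nat.card (P : Subgroup G) = 9 := by
    have h9 : Nat.card ((P : Subgroup G) ⊓ b : Subgroup G) * 9 = Nat.card (P : Subgroup G) := hf
    rw [hfar b hf, hbot, Subgroup.card_bot] at h9
    omega
  refine ⟨hcard, ?_⟩
  intro hcyc
  apply hD12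
  exact Cfsg.Agent.Helper67.eq_of_card_eq_of_le_cyclic (P : Subgroup G) D1 D2 hD1P hD2P (by omega)

end Cfsg.Agent.Helper95.S22
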