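import Cfsg.Agent.Helper95.S22.Lines
import Cfsg.Agent.Helper95.S22.Count

set_option autoImplicit false
set_option linter.unusedSectionVars false

open scoped Classical Pointwise

namespace Cfsg.Agent.Helper95.S22

open Cfsg.Agent.Helper70.Syl

variable {G : Type*} [Group G] [Finite G]

/-- an element centralizing the Sylow subgroup `P` of order `9` has order dividing `9` in case (B) -/
theorem caseB_pow_nine_of_mem_centralizer [IsSimpleGroup G] (hB : CaseB G) (P : Sylow 3 G)
    (h9 : Nat.card (P : Subgroup G) = 9) {c : G}
    (hc : c ∈ Subgroup.centralizer ((P : Subgroup G) : Set G)) : c ^ 9 = 1 := by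
  have hcP : c • P = P := by
    rw [Sylow.smul_eq_iff_mem_normalizer]
    exact Subgroup.centralizer_le_normalizer _ hc
  have hcomm : ∀ u ∈ (P : Subgroup G), u * c = c * u :=
    fun u hu => Subgroup.mem_centralizer_iff.mp hc u hu
  have hstep : ∀ d : Sylow 3 G, ∃ u ∈ (P : Subgroup G), c • d = u • d := by
    intro d
    by_cases hd : P = d
    · subst hd
      exact ⟨1, one_mem _, by rw [one_smul, hcP]⟩
    rcases adj_or_far hB.h22 hd with h | h
    · have hmem : c • d ∈ line P d := by
        rw [mem_line]
        intro x hx
        have hxP : x ∈ (P : Subgroup G) := hx.1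
        have hxd : x ∈ (d : Subgroup G) := hx.2
        rw [Sylow.coe_subgroup_smul]
        have h1 : MulAut.conj c • x ∈ MulAut.conj c • (d : Subgroup G) :=
          Subgroup.smul_mem_pointwise_smul x (MulAut.conj c) (d : Subgroup G) hxd
        have h2 : MulAut.conj c • x = x := by
          rw [MulAut.smul_def, MulAut.conj_apply, ← hcomm x hxP, mul_inv_cancel_right]
        rwa [h2] at h1
      have hne : c • d ≠ P := by
        intro h'
        apply hd
        have : c • d = c • P := by rw [h', hcP]
        exact (smul_left_cancel c this).symm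
      obtain ⟨g, hg, hgd⟩ := orbit_eq_of_card_line h (hB.line4 P d h) hmem hne
      exact ⟨g, hg, hgd.symm⟩
    · have h' : Far P (c • d) := by
        have := (far_smul_iff c (α := P) (β := d)).mpr h
        rwa [hcP] at this
      obtain ⟨g, hg, hgd⟩ := exists_smul_eq_of_far P (hB.far P) h h'
      exact ⟨g, hg, hgd.symm⟩
  apply eq_one_of_forall_smul_eq (p := 3) (by rw [hB.h22]; norm_num)
  intro d
  obtain ⟨u, hu, hud⟩ := hstep d
  have hcu : Commute c u := (hcomm u hu).symm
  have hk : ∀ k : ℕ, c ^ k • d = u ^ k • d := by
    intro k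
    induction k with
    | zero => simp
    | succ k ih =>
      have h1 : c ^ k * u = u * c ^ k := hcu.pow_left k
      rw [pow_succ, mul_smul, hud, ← mul_smul, h1, mul_smul, ih, ← mul_smul, ← pow_succ']
  have hu9 : u ^ 9 = 1 := by
    have := pow_card_eq_one' (G := (P : Subgroup G)) (x := ⟨u, hu⟩)
    rw [h9] at this
    have h2 := congrArg (Subtype.val) this
    simpa using h2
  rw [hk 9, hu9, one_smul]

/-- in case (B) the Sylow `3`-subgroups are self-centralizing -/
theorem caseB_centralizer [IsSimpleGroup G] (hB : CaseB G) (P : Sylow 3 G)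
    (h9 : Nat.card (P : Subgroup G) = 9) :
    Subgroup.centralizer ((P : Subgroup G) : Set G) ≤ P := by
  set C : Subgroup G := Subgroup.centralizer ((P : Subgroup G) : Set G) with hC
  have hp : IsPGroup 3 C := by
    intro g
    refine ⟨2, ?_⟩
    have := caseB_pow_nine_of_mem_centralizer hB P h9 g.2
    apply Subtype.ext
    simpa using this
  have h1 : C ⊓ Subgroup.normalizer ((P : Subgroup G) : Set G) = C ⊓ P := hp.inf_normalizer_sylow P
  have h2 : C ≤ Subgroup.normalizer ((P : Subgroup G) : Set G) := Subgroup.centralizer_le_normalizer _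
  have h3 : C = C ⊓ P := by
    rw [← h1]
    exact (inf_eq_left.mpr h2).symm
  rw [h3]
  exact inf_le_right

end Cfsg.Agent.Helper95.S22
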