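import Cfsg.Agent.Helper95.S22.AutC3sq

set_option autoImplicit false
set_option linter.unusedSectionVars false

namespace Cfsg.Agent.Helper95.S22

variable {G : Type*} [Group G] [Finite G]

/-- `|G| = 22 · 9 · 2^a` with `a ≤ 4` when `P ≅ C_3 × C_3` is self-centralizing and `n_3 = 22` -/
theorem card_eq_of_self_centralizing (h22 : Nat.card (Sylow 3 G) = 22) (P : Sylow 3 G)
    (h9 : Nat.card (P : Subgroup G) = 9) (hnc : ¬ IsCyclic (P : Subgroup G))
    (hC : Subgroup.centralizer ((P : Subgroup G) : Set G) ≤ P) :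
    ∃ a : ℕ, a ≤ 4 ∧ Nat.card G = 198 * 2 ^ a := by
  classical
  have hp3 : Fact (Nat.Prime 3) := ⟨Nat.prime_three⟩
  -- `|G| = 22 * |N|`
  have hidx : (Subgroup.normalizer ((P : Subgroup G) : Set G)).index = 22 := by
    rw [← h22]
    exact (Sylow.card_eq_index_normalizer P).symm
  have hG : Nat.card G =
      Nat.card (Subgroup.normalizer ((P : Subgroup G) : Set G)) * 22 := by
    rw [← hidx, Subgroup.card_mul_index]
  -- `P` is abelian, so `C(P) = P`
  have hab : ∀ a b : (P : Subgroup G), a * b = b * a := by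
    have h1 : IsMulCommutative (P : Subgroup G) :=
      IsPGroup.isMulCommutative_of_card_eq_prime_sq (p := 3) (by rw [h9]; norm_num)
    exact fun a b => h1.is_comm.comm a b
  have hPC : (P : Subgroup G) ≤ Subgroup.centralizer ((P : Subgroup G) : Set G) := by
    intro x hx
    rw [Subgroup.mem_centralizer_iff]
    intro y hy
    exact congrArg Subtype.val (hab ⟨y, hy⟩ ⟨x, hx⟩)
  have hCeq : Subgroup.centralizer ((P : Subgroup G) : Set G) = P := le_antisymm hC hPC
  -- `N / C` embeds in `Aut P`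
  have hker := Subgroup.normalizerMonoidHom_ker (P : Subgroup G)
  have hcardker : Nat.card (P : Subgroup G).normalizerMonoidHom.ker = 9 := by
    rw [hker, hCeq, ← h9]
    exact Nat.card_congr (Subgroup.subgroupOfEquivOfLe Subgroup.le_normalizer).toEquiv
  have hN : Nat.card (Subgroup.normalizer ((P : Subgroup G) : Set G)) =
      9 * Nat.card (P : Subgroup G).normalizerMonoidHom.range := by
    have h1 := Subgroup.card_mul_index (P : Subgroup G).normalizerMonoidHom.ker
    rw [Subgroup.index_ker, hcardker] at h1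
    exact h1.symm
  have hdvd : Nat.card (P : Subgroup G).normalizerMonoidHom.range ∣ 48 := by
    have h1 := Subgroup.card_subgroup_dvd_card (P : Subgroup G).normalizerMonoidHom.range
    rwa [card_mulAut_of_card_nine h9 hnc] at h1
  obtain ⟨m, hm⟩ : ∃ m, m = Nat.card (P : Subgroup G).normalizerMonoidHom.range := ⟨_, rfl⟩
  rw [← hm] at hN hdvd
  rw [hN] at hG
  -- `3 ∤ m`
  have h3m : ¬ 3 ∣ m := by
    intro h3
    have h27 : 3 ^ 3 ∣ Nat.card G := by
      obtain ⟨k, rfl⟩ := h3
      rw [hG]
      exact ⟨k * 22, by ring⟩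
    have hG0 : Nat.card G ≠ 0 := Nat.card_pos.ne'
    have h1 := (Nat.prime_three.pow_dvd_iff_le_factorization hG0).mp h27
    have h2 := P.card_eq_multiplicity
    rw [h9] at h2
    have h3' : (Nat.card G).factorization 3 = 2 := by
      have : (3 : ℕ) ^ 2 = 3 ^ (Nat.card G).factorization 3 := by rw [← h2]; norm_num
      exact (Nat.pow_right_injective (by norm_num : 2 ≤ 3) this).symm
    omega
  have hm16 : m ∣ 2 ^ 4 := by
    have hcop : Nat.Coprime m 3 := (Nat.Coprime.symm ((Nat.Prime.coprime_iff_not_dvd Nat.prime_three).mpr h3m))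
    have h48 : m ∣ 2 ^ 4 * 3 := by norm_num; exact hdvd
    exact hcop.dvd_of_dvd_mul_right h48
  obtain ⟨a, ha, rfl⟩ := (Nat.dvd_prime_pow Nat.prime_two).mp hm16
  exact ⟨a, ha, by rw [hG]; ring⟩

end Cfsg.Agent.Helper95.S22
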