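import Cfsg.Agent.Helper95.S22.Lines

set_option autoImplicit false
set_option linter.unusedSectionVars false

open scoped Classical Pointwise

namespace Cfsg.Agent.Helper95.S22

open Cfsg.Agent.Helper70.Syl

variable {G : Type*} [Group G] [Finite G]

/-- (Claim 1) a common neighbour `γ` of two far points `α β` contains `α ⊓ β` -/
theorem inf_le_of_far_of_adj {α β γ : Sylow 3 G} (hf : Far α β) (h1 : Adj α γ) (h2 : Adj β γ) :
    (α : Subgroup G) ⊓ β ≤ γ := by
  have hγα : Adj γ α := h1.symm
  have hγβ : Adj γ β := h2.symm
  -- the two lines through `γ` are different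
  have hne : line γ α ≠ line γ β := by
    intro heq
    apply not_adj_of_far hf
    have hα : α ∈ line γ β := by
      rw [← heq]
      exact right_mem_line γ α
    exact adj_of_mem_line hγβ hα (right_mem_line γ β) hf.ne
  intro g hg
  rw [Subgroup.mem_inf] at hg
  have m1 : g • γ ∈ line γ α := by
    rw [lines_line_comm]
    exact smul_mem_line h1 hg.1 (right_mem_line α γ)
  have m2 : g • γ ∈ line γ β := by
    rw [lines_line_comm]
    exact smul_mem_line h2 hg.2 (right_mem_line β γ)
  have hfix : g • γ = γ := eq_of_mem_line_of_mem_line hγα hγβ hne m1 m2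
  exact mem_of_smul_eq hg.1 hfix

end Cfsg.Agent.Helper95.S22
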