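import Mathlib
import Cfsg.Agent.Helper70.Syl2

/-!
# `n_3 = 22` is impossible: definitions (helper95)

`Ω = Sylow 3 G` with `|Ω| = 22`.  Two points are *adjacent* when the two Sylow subgroups meet in a
subgroup of index `3`, and *far* when they meet in a subgroup of index `9`.  The *line* through two
adjacent points `α β` is the set of all Sylow subgroups containing `α ⊓ β`.
-/

set_option autoImplicit false
set_option linter.unusedSectionVars false

open scoped Classical Pointwise

namespace Cfsg.Agent.Helper95.S22

open Cfsg.Agent.Helper70.Syl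

variable {G : Type*} [Group G] [Finite G]

/-- two Sylow `3`-subgroups meeting in a subgroup of index `3` -/
def Adj (α β : Sylow 3 G) : Prop :=
  Nat.card ((α : Subgroup G) ⊓ β : Subgroup G) * 3 = Nat.card (α : Subgroup G)

/-- two Sylow `3`-subgroups meeting in a subgroup of index `9` -/
def Far (α β : Sylow 3 G) : Prop :=
  Nat.card ((α : Subgroup G) ⊓ β : Subgroup G) * 9 = Nat.card (α : Subgroup G)

/-- the line through `α` and `β`: all Sylow `3`-subgroups containing `α ⊓ β` -/
noncomputable def line (α β : Sylow 3 G) : Finset (Sylow 3 G) :=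
  above 3 ((α : Subgroup G) ⊓ β)

/-- the neighbours of `α` -/
noncomputable def nbr (α : Sylow 3 G) : Finset (Sylow 3 G) :=
  haveI : Fintype (Sylow 3 G) := Fintype.ofFinite _
  Finset.univ.filter (fun β : Sylow 3 G => Adj α β)

/-- the points far from `α` -/
noncomputable def farSet (α : Sylow 3 G) : Finset (Sylow 3 G) :=
  haveI : Fintype (Sylow 3 G) := Fintype.ofFinite _
  Finset.univ.filter (fun β : Sylow 3 G => Far α β)

/-- the lines through `α` -/
noncomputable def linesAt (α : Sylow 3 G) : Finset (Finset (Sylow 3 G)) :=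
  (nbr α).image (fun β => line α β)

theorem mem_line {α β γ : Sylow 3 G} : γ ∈ line α β ↔ (α : Subgroup G) ⊓ β ≤ γ := by
  unfold line
  exact mem_above

theorem mem_nbr {α β : Sylow 3 G} : β ∈ nbr α ↔ Adj α β := by
  simp [nbr]

theorem mem_farSet {α β : Sylow 3 G} : β ∈ farSet α ↔ Far α β := by
  simp [farSet]

theorem mem_linesAt {α : Sylow 3 G} {ℓ : Finset (Sylow 3 G)} :
    ℓ ∈ linesAt α ↔ ∃ β, Adj α β ∧ line α β = ℓ := by
  simp [linesAt, mem_nbr]

/-- the configuration of case (B): every point has `12` neighbours and `9` far points, and all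
lines have `4` points -/
structure CaseB (G : Type*) [Group G] [Finite G] : Prop where
  h22 : Nat.card (Sylow 3 G) = 22
  nbr : ∀ α : Sylow 3 G, (nbr α).card = 12
  far : ∀ α : Sylow 3 G, (farSet α).card = 9
  line4 : ∀ α β : Sylow 3 G, Adj α β → (line α β).card = 4

end Cfsg.Agent.Helper95.S22
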