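import Mathlib
import Cfsg.Agent.Helper70.Syl5

set_option autoImplicit false
set_option linter.unusedSectionVars false
set_option linter.style.haveILetI false

namespace Cfsg.Agent.Helper95.S22

open Cfsg.Agent.Helper70.PCount Cfsg.Agent.Helper70.Syl

variable {G : Type*} [Group G] [Finite G]

/-- `11` does not divide `9 * 2 ^ a` -/
theorem eleven_not_dvd_nine_mul (a : ℕ) : ¬ 11 ∣ 9 * 2 ^ a := by
  intro h
  have hp : Nat.Prime 11 := by norm_num
  rcases (Nat.Prime.dvd_mul hp).mp h with h | h
  · omega
  · have := hp.dvd_of_dvd_pow h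
    omega

/-- an element of order `11` normalizes no Sylow `3`-subgroup -/
theorem smul_ne_of_orderOf_eleven (h22 : Nat.card (Sylow 3 G) = 22)
    (a : ℕ) (hG : Nat.card G = 198 * 2 ^ a) (y : G) (hy : orderOf y = 11) (d : Sylow 3 G) :
    y • d ≠ d := by
  intro h
  rw [Sylow.smul_eq_iff_mem_normalizer] at h
  have h1 := d.card_eq_index_normalizer
  have h2 := Subgroup.card_mul_index (Subgroup.normalizer (d : Set G))
  rw [← h1, h22, hG] at h2
  have h3 : Nat.card (Subgroup.normalizer (d : Set G)) = 9 * 2 ^ a := by omega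
  have h4 := Subgroup.orderOf_dvd_natCard _ h
  rw [hy, h3] at h4
  exact eleven_not_dvd_nine_mul a h4

open scoped Classical in
/-- the Sylow `3`-subgroups normalized by `c` -/
noncomputable def fixed3 (c : G) : Finset (Sylow 3 G) :=
  haveI : Fintype (Sylow 3 G) := Fintype.ofFinite _
  Finset.univ.filter (fun R : Sylow 3 G => c • R = R)

theorem mem_fixed3 {c : G} {R : Sylow 3 G} : R ∈ fixed3 c ↔ c • R = R := by
  simp [fixed3]

theorem smul_zpow_eq (c : G) (R : Sylow 3 G) (h : c • R = R) (k : ℤ) : c ^ k • R = R := by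
  have hstab : c ∈ MulAction.stabilizer G R := h
  exact zpow_mem hstab k

open scoped Classical in
/-- the number of Sylow `3`-subgroups normalized by an element commuting with an element of
order `11` is divisible by `11` -/
theorem card_fixed3_modEq_zero (h22 : Nat.card (Sylow 3 G) = 22)
    (a : ℕ) (hG : Nat.card G = 198 * 2 ^ a) (y : G) (hy : orderOf y = 11) (c : G)
    (hc : c * y = y * c) : (fixed3 c).card ≡ 0 [MOD 11] := by
  haveI : Fact (Nat.Prime 11) := ⟨by norm_num⟩
  have hZ : IsPGroup 11 (Subgroup.zpowers y) := by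
    apply IsPGroup.of_card (n := 1)
    rw [Nat.card_zpowers, hy, pow_one]
  have hinv : ∀ g : Subgroup.zpowers y, ∀ t ∈ fixed3 c, g • t ∈ fixed3 c := by
    rintro ⟨g, hg⟩ t ht
    obtain ⟨k, rfl⟩ := Subgroup.mem_zpowers_iff.mp hg
    rw [mem_fixed3] at ht ⊢
    rw [Subgroup.smul_def]
    show c • (y ^ k • t) = y ^ k • t
    have hcomm : c * y ^ k = y ^ k * c := (Commute.zpow_right (show Commute c y from hc) k).eq
    rw [← mul_smul, hcomm, mul_smul, ht]
  have h := card_modEq_card_fixed (p := 11) hZ (fixed3 c) hinv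
  have hempty : (fixed3 c).filter (fun t => ∀ g : Subgroup.zpowers y, g • t = t) = ∅ := by
    rw [Finset.filter_eq_empty_iff]
    intro t _ hfix
    exact smul_ne_of_orderOf_eleven h22 a hG y hy t (hfix ⟨y, Subgroup.mem_zpowers y⟩)
  rw [hempty, Finset.card_empty] at h
  exact h

open scoped Classical in
/-- the number of Sylow `3`-subgroups normalized by an element of prime order `r` is `≡ 22 mod r` -/
theorem card_fixed3_modEq (h22 : Nat.card (Sylow 3 G) = 22) (c : G) (r : ℕ) (hr : r.Prime)
    (hord : orderOf c = r) : 22 ≡ (fixed3 c).card [MOD r] := by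
  haveI : Fact r.Prime := ⟨hr⟩
  letI : Fintype (Sylow 3 G) := Fintype.ofFinite _
  have hZ : IsPGroup r (Subgroup.zpowers c) := by
    apply IsPGroup.of_card (n := 1)
    rw [Nat.card_zpowers, hord, pow_one]
  have hcong := card_modEq_card_fixed (p := r) hZ (Finset.univ : Finset (Sylow 3 G))
    (fun _ _ _ => Finset.mem_univ _)
  have hfe : (Finset.univ : Finset (Sylow 3 G)).filter
      (fun R => ∀ g : Subgroup.zpowers c, g • R = R) = fixed3 c := by
    ext R
    rw [Finset.mem_filter, mem_fixed3]
    constructor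
    · rintro ⟨-, h⟩
      exact h ⟨c, Subgroup.mem_zpowers c⟩
    · intro h
      refine ⟨Finset.mem_univ _, ?_⟩
      rintro ⟨g, hg⟩
      obtain ⟨k, rfl⟩ := Subgroup.mem_zpowers_iff.mp hg
      rw [Subgroup.smul_def]
      exact smul_zpow_eq c R h k
  rw [hfe, Finset.card_univ, ← Nat.card_eq_fintype_card, h22] at hcong
  exact hcong

open scoped Classical in
theorem card_fixed3_le (h22 : Nat.card (Sylow 3 G) = 22) (c : G) : (fixed3 c).card ≤ 22 := by
  letI : Fintype (Sylow 3 G) := Fintype.ofFinite _
  rw [← h22, Nat.card_eq_fintype_card]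
  exact Finset.card_le_univ _

open scoped Classical in
theorem eq_one_of_card_fixed3 [IsSimpleGroup G] (h22 : Nat.card (Sylow 3 G) = 22) (c : G)
    (h : (fixed3 c).card = 22) : c = 1 := by
  apply eq_one_of_forall_smul_eq (p := 3) (by rw [h22]; norm_num)
  intro R
  letI : Fintype (Sylow 3 G) := Fintype.ofFinite _
  rw [← mem_fixed3]
  have : fixed3 c = Finset.univ := by
    rw [← Finset.card_eq_iff_eq_univ, h, ← h22, Nat.card_eq_fintype_card]
  rw [this]
  exact Finset.mem_univ R

open scoped Classical in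
/-- no element of prime order other than `11` commutes with an element of order `11` -/
theorem no_prime_order_commuting [IsSimpleGroup G] (h22 : Nat.card (Sylow 3 G) = 22)
    (a : ℕ) (hG : Nat.card G = 198 * 2 ^ a) (y : G) (hy : orderOf y = 11) (c : G)
    (hc : c * y = y * c) (r : ℕ) (hr : r.Prime) (hord : orderOf c = r)
    (hr23 : r = 2 ∨ r = 3) : False := by
  haveI : Fact (Nat.Prime 17) := ⟨by norm_num⟩
  letI : Fintype (Sylow 3 G) := Fintype.ofFinite _
  have hn1 : Nat.card (Sylow 3 G) ≠ 1 := by rw [h22]; norm_num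
  have hc1 : c ≠ 1 := by
    rintro rfl
    rw [orderOf_one] at hord
    exact hr.one_lt.ne hord
  have h11 := card_fixed3_modEq_zero h22 a hG y hy c hc
  have hmod := card_fixed3_modEq h22 c r hr hord
  have hle := card_fixed3_le h22 c
  have hne : (fixed3 c).card ≠ 22 := fun h => hc1 (eq_one_of_card_fixed3 h22 c h)
  rcases hr23 with rfl | rfl
  · -- r = 2 : fixed point free involution on 22 points
    have h0 : (fixed3 c).card = 0 := by
      unfold Nat.ModEq at h11 hmod
      omega
    set σ : Equiv.Perm (Sylow 3 G) := MulAction.toPermHom G (Sylow 3 G) c with hσ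
    have hσ2 : σ ^ 2 = 1 := by
      rw [hσ, ← map_pow, ← hord, pow_orderOf_eq_one, map_one]
    have hσ1 : σ ≠ 1 := by
      intro h
      apply hc1
      apply eq_one_of_forall_smul_eq hn1
      intro R
      have := congrArg (fun τ : Equiv.Perm (Sylow 3 G) => τ R) h
      simpa [hσ] using this
    have hσord : orderOf σ = 2 := orderOf_eq_prime hσ2 hσ1
    have hsupp : σ.support = Finset.univ \ fixed3 c := by
      ext R
      rw [Equiv.Perm.mem_support, Finset.mem_sdiff, mem_fixed3]
      simp [hσ]
    have hsuppcard : σ.support.card = 2 * 11 := by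
      rw [hsupp, Finset.card_sdiff_of_subset (Finset.subset_univ _), h0, Finset.card_univ,
        ← Nat.card_eq_fintype_card, h22]
    have hsign := sign_of_involution σ hσord 11 hsuppcard
    have hG2 : 2 < Nat.card G := by
      rw [hG]
      have : 0 < 2 ^ a := Nat.pos_of_ne_zero (by positivity)
      omega
    have hone := sign_toPerm_eq_one hG2 (Ω := Sylow 3 G) c
    rw [← hσ, hsign] at hone
    norm_num at hone
  · -- r = 3
    unfold Nat.ModEq at h11 hmod
    omega

/-- an element of order `11` is self-centralizing -/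
theorem card_centralizer_of_orderOf_eleven [IsSimpleGroup G] (h22 : Nat.card (Sylow 3 G) = 22)
    (a : ℕ) (hG : Nat.card G = 198 * 2 ^ a) (y : G) (hy : orderOf y = 11) :
    Nat.card (Subgroup.centralizer ({y} : Set G)) = 11 := by
  set C : Subgroup G := Subgroup.centralizer ({y} : Set G) with hC
  have hyC : y ∈ C := by
    rw [hC, Subgroup.mem_centralizer_iff]
    intro x hx
    rw [Set.mem_singleton_iff.mp hx]
  have h11 : 11 ∣ Nat.card C := by
    have := Subgroup.orderOf_dvd_natCard C hyC
    rwa [hy] at this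
  obtain ⟨m, hm⟩ := h11
  have hdvd : Nat.card C ∣ Nat.card G := Subgroup.card_subgroup_dvd_card C
  rw [hm, hG] at hdvd
  have hm18 : m ∣ 18 * 2 ^ a := by
    have h198 : 198 * 2 ^ a = 11 * (18 * 2 ^ a) := by ring
    rw [h198] at hdvd
    exact (Nat.mul_dvd_mul_iff_left (by norm_num : 0 < 11)).mp hdvd
  by_cases hm1 : m = 1
  · rw [hm, hm1]
  exfalso
  obtain ⟨r, hr, hrm⟩ := Nat.exists_prime_and_dvd hm1
  have hr23 : r = 2 ∨ r = 3 := by
    have h1 : r ∣ 18 * 2 ^ a := hrm.trans hm18
    rcases (Nat.Prime.dvd_mul hr).mp h1 with h | h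
    · have h18 : (18 : ℕ) = 2 * (3 * 3) := by norm_num
      rw [h18] at h
      rcases (Nat.Prime.dvd_mul hr).mp h with h | h
      · left; exact (Nat.prime_dvd_prime_iff_eq hr Nat.prime_two).mp h
      · right
        rcases (Nat.Prime.dvd_mul hr).mp h with h | h <;>
          exact (Nat.prime_dvd_prime_iff_eq hr Nat.prime_three).mp h
    · left
      exact (Nat.prime_dvd_prime_iff_eq hr Nat.prime_two).mp (hr.dvd_of_dvd_pow h)
  haveI : Fact r.Prime := ⟨hr⟩
  have hrC : r ∣ Nat.card C := by
    rw [hm]
    exact Dvd.dvd.mul_left hrm 11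
  obtain ⟨x, hx⟩ := exists_prime_orderOf_dvd_card' r hrC
  have hxord : orderOf (x : G) = r := by rw [Subgroup.orderOf_coe, hx]
  have hcomm : (x : G) * y = y * (x : G) := by
    have hx2 : (x : G) ∈ Subgroup.centralizer ({y} : Set G) := x.2
    rw [Subgroup.mem_centralizer_iff] at hx2
    exact (hx2 y (Set.mem_singleton y)).symm
  exact no_prime_order_commuting h22 a hG y hy (x : G) hcomm r hr hxord hr23

end Cfsg.Agent.Helper95.S22
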