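import Cfsg.Agent.Helper95.S22.Eleven1
import Cfsg.Agent.Helper67.S22E2

set_option autoImplicit false
set_option linter.unusedSectionVars false

namespace Cfsg.Agent.Helper95.S22

variable {G : Type*} [Group G] [Finite G]

/-- the Sylow `11`-analysis: `|G| = 3168` and `|N(Q) : C(Q)| = 2` -/
theorem sylow_eleven [IsSimpleGroup G] [Fact (Nat.Prime 11)] (h22 : Nat.card (Sylow 3 G) = 22)
    (a : ℕ) (ha : a ≤ 4) (hG : Nat.card G = 198 * 2 ^ a) :
    Nat.card G = 3168 ∧ ∀ Q : Sylow 11 G, Nat.card (Q : Subgroup G) = 11 ∧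
      (Subgroup.centralizer ((Q : Subgroup G) : Set G)).relIndex
        (Subgroup.normalizer ((Q : Subgroup G) : Set G)) = 2 :=
  Cfsg.Agent.Helper67.S22E2.sylow_eleven_of_cent a ha hG
    (fun y hy => card_centralizer_of_orderOf_eleven h22 a hG y hy)

end Cfsg.Agent.Helper95.S22
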