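import Mathlib

set_option autoImplicit false
set_option linter.unusedSectionVars false

open scoped Classical Pointwise

namespace Cfsg.Agent.Helper95.S22

/-- double counting of flags: a `G`-invariant family of `k`-subsets of a transitive `G`-set -/
theorem flag_count {G Ω : Type*} [Group G] [MulAction G Ω] [Finite Ω]
    [MulAction.IsPretransitive G Ω] (L : Finset (Finset Ω))
    (hinv : ∀ g : G, ∀ ℓ ∈ L, ℓ.image (fun x => g • x) ∈ L) (k : ℕ)
    (hk : ∀ ℓ ∈ L, ℓ.card = k) (α : Ω) :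
    k * L.card = Nat.card Ω * (L.filter (fun ℓ => α ∈ ℓ)).card := by
  have : Fintype Ω := Fintype.ofFinite Ω
  rw [Nat.card_eq_fintype_card]
  have hr : ∀ x y : Ω,
      (L.filter (fun ℓ => x ∈ ℓ)).card ≤ (L.filter (fun ℓ => y ∈ ℓ)).card := by
    intro x y
    obtain ⟨g, hg⟩ := MulAction.exists_smul_eq G x y
    apply Finset.card_le_card_of_injOn (fun ℓ => ℓ.image (fun z => g • z))
    · intro ℓ hℓ
      rw [Finset.mem_coe, Finset.mem_filter] at hℓ ⊢
      exact ⟨hinv g ℓ hℓ.1, by rw [← hg]; exact Finset.mem_image_of_mem _ hℓ.2⟩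
    · intro ℓ₁ _ ℓ₂ _ h
      exact Finset.image_injective (MulAction.injective g) h
  have hr' : ∀ x, (L.filter (fun ℓ => x ∈ ℓ)).card = (L.filter (fun ℓ => α ∈ ℓ)).card :=
    fun x => le_antisymm (hr x α) (hr α x)
  have h1 : ∑ ℓ ∈ L, ℓ.card = k * L.card := by
    rw [Finset.sum_congr rfl hk, Finset.sum_const, smul_eq_mul, mul_comm]
  have h2 : ∑ ℓ ∈ L, ℓ.card = ∑ x : Ω, (L.filter (fun ℓ => x ∈ ℓ)).card := by
    have h := Finset.sum_card_bipartiteAbove_eq_sum_card_bipartiteBelow (s := L)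
      (t := (Finset.univ : Finset Ω)) (fun ℓ x => x ∈ ℓ)
    simp only [Finset.bipartiteAbove, Finset.bipartiteBelow] at h
    rw [← h]
    apply Finset.sum_congr rfl
    intro ℓ _
    congr 1
    ext x
    simp
  rw [← h1, h2, Finset.sum_congr rfl (fun x _ => hr' x), Finset.sum_const, Finset.card_univ,
    smul_eq_mul]

end Cfsg.Agent.Helper95.S22
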