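import Mathlib
import Cfsg.Agent.Helper16.DefOne.Principal
import Cfsg.Agent.Helper25.NPCSimple

/-!
# S4346, piece (Kill3168) (written by helper47 for helper95)

No simple group of order `3168 = 2⁵ · 3² · 11` has a self-centralizing Sylow `11`-subgroup `Q`
with `|N(Q) : C(Q)| = 2`: the principal `11`-block would consist of `1`, `χ` and five characters
of the same degree `t` with `t ≡ ±2`, `χ(1) ≡ ±1 (mod 11)`, `±t = 1 ± χ(1)`, `5 t² ≤ 3168`, and the
degrees divide `3168`.
-/

set_option autoImplicit false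
set_option linter.unusedSectionVars false

namespace Cfsg.Agent.Helper95.S22

open Cfsg

/-- the arithmetic core of (Kill3168) -/
theorem kill3168_arith (t d : ℕ) (ε εc : ℤ) (hε : ε = 1 ∨ ε = -1) (hεc : εc = 1 ∨ εc = -1)
    (ht : (t : ℤ) ≡ ε * 2 [ZMOD 11]) (hd : (d : ℤ) ≡ εc [ZMOD 11])
    (hrel : ε * (t : ℤ) = 1 + εc * (d : ℤ)) (htd : t ∣ 3168) (hdd : d ∣ 3168)
    (hsq : 5 * t ^ 2 ≤ 3168) (hd1 : d ≠ 1) : False := by
  have ht25 : t ≤ 25 := by
    by_contra hlt
    push_neg at hlt
    have : 26 * 26 ≤ t * t := Nat.mul_le_mul hlt hlt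
    nlinarith
  simp only [Int.ModEq] at ht hd
  rcases hε with rfl | rfl <;> rcases hεc with rfl | rfl <;> interval_cases t <;>
    first
    | omega
    | (have hd' : d = 10 := by omega
       subst hd'
       omega)
    | (have hd' : d = 23 := by omega
       subst hd'
       omega)
    | (have hd' : d = 12 := by omega
       subst hd'
       omega)
    | (have hd' : d = 21 := by omega
       subst hd'
       omega)

variable {G : Type*} [Group G] [Finite G]

/-- no simple group of order `3168` has a self-centralizing Sylow `11` with `|N(Q) : C(Q)| = 2` -/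
theorem false_of_card_3168 [IsSimpleGroup G] [Fact (Nat.Prime 11)] (hG : Nat.card G = 3168)
    (Q : Sylow 11 G) (hQ : Nat.card (Q : Subgroup G) = 11)
    (he : (Subgroup.centralizer ((Q : Subgroup G) : Set G)).relIndex
        (Subgroup.normalizer ((Q : Subgroup G) : Set G)) = 2) : False := by
  classical
  letI : Fintype G := Fintype.ofFinite G
  have hp : Nat.Prime 11 := Fact.out
  obtain ⟨M, hM⟩ := Helper74.exists_isPModular 11 hp
  have hMp : M.IsPrime := hM.2.1.isPrime
  obtain ⟨X, Y, hXY, hdisj, hcX, hcY, εX, ε, hX, hε, hYdeg, hYeq, hrel⟩ :=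
    Helper16.DefOne.principal_structure M Q hM hQ 2 he
  -- `Q` is not normal, so `G` is perfect
  have hQn : ¬ (Q : Subgroup G).Normal := by
    intro hn
    rcases hn.eq_bot_or_eq_top with h | h
    · rw [h, Subgroup.card_bot] at hQ
      omega
    · rw [h, Subgroup.card_top, hG] at hQ
      omega
  have hperf : commutator G = ⊤ := Helper25.NPCSimple.commutator_eq_top_of_simple _ hQn
  have hprB : Helper79.principalIrr G ∈ principalBlock M G :=
    Helper78.principalIrr_mem_principalBlock M hMp G
  have hone_reg : ¬ 11 ∣ orderOf (1 : G) := by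
    rw [orderOf_one]
    exact hp.not_dvd_one
  have hpr1 : ((Helper79.principalIrr G : IrrCharacter G) : G → ℂ) 1 = 1 := rfl
  have hprdeg : charDegree ((Helper79.principalIrr G : IrrCharacter G) : G → ℂ) = 1 := by
    have := Helper79.irr_one (Helper79.principalIrr G)
    rw [hpr1] at this
    exact_mod_cast this.symm
  have hXfin : X.Finite := Set.toFinite X
  have hYfin : Y.Finite := Set.toFinite Y
  have hXcard : hXfin.toFinset.card = 2 := by
    rw [← hcX, ← Set.ncard_eq_toFinset_card _ hXfin]
    exact (Nat.card_coe_set_eq _).symm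
  have hYcard : hYfin.toFinset.card = 5 := by
    have h5 : (11 - 1) / 2 = 5 := by norm_num
    rw [← h5, ← hcY, ← Set.ncard_eq_toFinset_card _ hYfin]
    exact (Nat.card_coe_set_eq _).symm
  -- the principal character lies in `X`, with sign `+`
  have hprX : Helper79.principalIrr G ∈ X := by
    rw [hXY] at hprB
    rcases hprB with h | h
    · exact h
    · exfalso
      have h1 := hYdeg _ h
      rw [hprdeg] at h1
      simp only [Int.ModEq] at h1
      rcases hε with h2 | h2 <;> rw [h2] at h1 <;> omega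
  have hεpr : εX (Helper79.principalIrr G) = 1 := by
    rcases (hX _ hprX).1 with h | h
    · exact h
    · exfalso
      have h1 := (hX _ hprX).2.1
      rw [h, hprdeg] at h1
      simp only [Int.ModEq] at h1
      omega
  -- the other member of `X`
  obtain ⟨a, b, hab, hXab⟩ := Finset.card_eq_two.1 hXcard
  have hex : ∃ χ, χ ≠ Helper79.principalIrr G ∧
      hXfin.toFinset = {Helper79.principalIrr G, χ} := by
    have hmem : Helper79.principalIrr G ∈ hXfin.toFinset := hXfin.mem_toFinset.mpr hprX
    rw [hXab, Finset.mem_insert, Finset.mem_singleton] at hmem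
    rcases hmem with h | h
    · refine ⟨b, ?_, ?_⟩
      · rw [h]
        exact hab.symm
      · rw [hXab, h]
    · refine ⟨a, ?_, ?_⟩
      · rw [h]
        exact hab
      · rw [hXab, h, Finset.pair_comm]
  obtain ⟨χ, hχne, hXχ⟩ := hex
  have hχX : χ ∈ X := by
    apply hXfin.mem_toFinset.mp
    rw [hXχ]
    exact Finset.mem_insert_of_mem (Finset.mem_singleton_self _)
  -- a member of `Y`
  have hYne : hYfin.toFinset.Nonempty := by
    rw [← Finset.card_pos, hYcard]
    omega
  obtain ⟨θ, hθ'⟩ := hYne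
  have hθ : θ ∈ Y := hYfin.mem_toFinset.mp hθ'
  have hrel1 := hrel θ hθ 1 hone_reg
  rw [finsum_mem_eq_finite_toFinset_sum _ hXfin, hXχ, Finset.sum_pair hχne.symm, hεpr, hpr1,
    Helper79.irr_one θ, Helper79.irr_one χ] at hrel1
  have hrelZ : ε * ((charDegree (θ : G → ℂ) : ℕ) : ℤ) =
      1 + εX χ * ((charDegree (χ : G → ℂ) : ℕ) : ℤ) := by
    have h1 : ((ε * ((charDegree (θ : G → ℂ) : ℕ) : ℤ) : ℤ) : ℂ) =
        ((1 + εX χ * ((charDegree (χ : G → ℂ) : ℕ) : ℤ) : ℤ) : ℂ) := by
      push_cast
      rw [hrel1]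
      ring
    exact_mod_cast h1
  -- all members of `Y` have the same degree
  have hYdeg' : ∀ θ' ∈ hYfin.toFinset, charDegree (θ' : G → ℂ) = charDegree (θ : G → ℂ) := by
    intro θ' hθ''
    have hθ'Y : θ' ∈ Y := hYfin.mem_toFinset.mp hθ''
    have h1 := hYeq θ' hθ'Y θ hθ 1 hone_reg
    rw [Helper79.irr_one θ', Helper79.irr_one θ] at h1
    exact_mod_cast h1
  have hsq := Helper79.sum_charDegree_sq (G := G)
  have hle : 5 * charDegree (θ : G → ℂ) ^ 2 ≤ 3168 := by
    rw [← hG, ← hsq, ← hYcard]
    calc hYfin.toFinset.card * charDegree (θ : G → ℂ) ^ 2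
        = ∑ θ' ∈ hYfin.toFinset, charDegree (θ' : G → ℂ) ^ 2 := by
          rw [Finset.sum_congr rfl (fun θ' hθ'' => by rw [hYdeg' θ' hθ'']), Finset.sum_const,
            smul_eq_mul]
      _ ≤ ∑ χ : IrrCharacter G, charDegree (χ : G → ℂ) ^ 2 :=
          Finset.sum_le_sum_of_subset (Finset.subset_univ _)
  have htd : charDegree (θ : G → ℂ) ∣ 3168 := by
    rw [← hG]
    exact Helper74.charDegree_dvd_card θ
  have hdd : charDegree (χ : G → ℂ) ∣ 3168 := by
    rw [← hG]
    exact Helper74.charDegree_dvd_card χ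
  have hd1 : charDegree (χ : G → ℂ) ≠ 1 := by
    intro h1
    apply hχne
    apply Helper20.D8.eq_principal_of_degree_one hperf χ
    rw [Helper79.irr_one χ, h1]
    simp
  exact kill3168_arith _ _ ε (εX χ) hε (hX χ hχX).1 (hYdeg θ hθ) (hX χ hχX).2.1 hrelZ htd hdd
    hle hd1

end Cfsg.Agent.Helper95.S22
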