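import Mathlib
import Cfsg.Agent.Helper16.DefOne.Principal
import Cfsg.Agent.Helper16.BlockOrthogonality
import Cfsg.Agent.Helper25.NPCSimple

set_option autoImplicit false
set_option linter.unusedSectionVars false

namespace Cfsg.Agent.Helper95.S22

open Cfsg

/-- the divisors of `44` -/
theorem killA_dvd_44 {d : ℕ} (h : d ∣ 44) :
    d = 1 ∨ d = 2 ∨ d = 4 ∨ d = 11 ∨ d = 22 ∨ d = 44 := by
  have hle : d ≤ 44 := Nat.le_of_dvd (by norm_num) h
  interval_cases d <;> omega

/-- no two divisors of `44` bigger than `1` have a signed sum `±1` -/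
theorem killA_arith (d1 d2 : ℕ) (s1 s2 s3 : ℤ) (h1 : d1 ∣ 44) (h2 : d2 ∣ 44) (hd1 : 1 < d1)
    (hd2 : 1 < d2) (hs1 : s1 = 1 ∨ s1 = -1) (hs2 : s2 = 1 ∨ s2 = -1) (hs3 : s3 = 1 ∨ s3 = -1)
    (h : s1 * (d1 : ℤ) + s2 * (d2 : ℤ) = s3) : False := by
  rcases killA_dvd_44 h1 with rfl | rfl | rfl | rfl | rfl | rfl <;>
  rcases killA_dvd_44 h2 with rfl | rfl | rfl | rfl | rfl | rfl <;>
  rcases hs1 with rfl | rfl <;> rcases hs2 with rfl | rfl <;> rcases hs3 with rfl | rfl <;>
  omega

/-- a set with two elements, one of which is `a` -/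
theorem killA_pair {α : Type*} {X : Set α} {a : α} (ha : a ∈ X) (hX : Nat.card X = 2) :
    ∃ b, b ≠ a ∧ X = {a, b} := by
  rw [Nat.card_coe_set_eq, Set.ncard_eq_two] at hX
  obtain ⟨x, y, hxy, rfl⟩ := hX
  rcases ha with rfl | ha
  · exact ⟨y, hxy.symm, rfl⟩
  · rw [Set.mem_singleton_iff] at ha
    subst ha
    exact ⟨x, hxy, Set.pair_comm x a⟩

variable {G : Type*} [Group G] [Finite G]

/-- case (A): no simple group has `n_3 = 22` and Sylow `3`-subgroups of order `3` -/
theorem false_of_card_three [IsSimpleGroup G] (h22 : Nat.card (Sylow 3 G) = 22) (P : Sylow 3 G)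
    (h3 : Nat.card (P : Subgroup G) = 3) : False := by
  classical
  let _ : Fintype G := Fintype.ofFinite G
  have : Fact (Nat.Prime 3) := ⟨Nat.prime_three⟩
  have hp : Nat.Prime 3 := Nat.prime_three
  obtain ⟨M, hM⟩ := Helper74.exists_isPModular 3 hp
  have hMp : M.IsPrime := hM.2.1.isPrime
  obtain ⟨X, Y, hXY, hdisj, hcX, hcY, εX, ε, hX, hε, -, hYeq, hrel⟩ :=
    Helper16.DefOne.principal_structure M P hM h3 _ rfl
  have hn22 : (Subgroup.normalizer ((P : Subgroup G) : Set G)).index = 22 := by
    have h1 := P.card_eq_index_normalizer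
    rw [h22] at h1
    exact h1.symm
  have hPn : ¬ (P : Subgroup G).Normal := by
    intro hn
    have h1 : Subgroup.normalizer ((P : Subgroup G) : Set G) = ⊤ :=
      Subgroup.normalizer_eq_top_iff.mpr hn
    rw [h1, Subgroup.index_top] at hn22
    omega
  have hperf : commutator G = ⊤ := Helper25.NPCSimple.commutator_eq_top_of_simple _ hPn
  have hCN : Subgroup.centralizer ((P : Subgroup G) : Set G) ≤
      Subgroup.normalizer ((P : Subgroup G) : Set G) := Subgroup.centralizer_le_normalizer _
  have hKidx := Subgroup.relIndex_mul_index hCN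
  have hedvd : (Subgroup.centralizer ((P : Subgroup G) : Set G)).relIndex
      (Subgroup.normalizer ((P : Subgroup G) : Set G)) ∣ 3 - 1 := by
    have h1 := Helper82.DefOne.relIndex_cen_nor_dvd P h3
    rw [Helper82.DefOne.nor_eq_normalizer P h3] at h1
    exact h1
  generalize he : (Subgroup.centralizer ((P : Subgroup G) : Set G)).relIndex
      (Subgroup.normalizer ((P : Subgroup G) : Set G)) = e at *
  rw [hn22] at hKidx
  -- a generator of `P`
  obtain ⟨x₀, hx₀, hx₀p⟩ := Helper48.DefOneGR.exists_gen P h3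
  have hx₀1 : x₀ ≠ 1 := by
    intro h
    rw [h, orderOf_one] at hx₀p
    omega
  have hcent := Helper25.NPCSimple.centralizer_singleton_eq P h3 x₀ hx₀ hx₀1
  have hone_reg : ¬ 3 ∣ orderOf (1 : G) := by rw [orderOf_one]; exact hp.not_dvd_one
  have hval : ∀ χ ∈ X, (χ : G → ℂ) x₀ = (εX χ : ℂ) := by
    intro χ hχ
    have h1 := (hX χ hχ).2.2 x₀ hx₀ hx₀1 1 (one_mem _) hone_reg
    rwa [mul_one] at h1
  -- degrees of characters with a value `±1` at `x₀` divide `e * 22`
  have hdvd' : ∀ (χ : IrrCharacter G) (s : ℤ), (s = 1 ∨ s = -1) → (χ : G → ℂ) x₀ = (s : ℂ) →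
      charDegree (χ : G → ℂ) ∣ e * 22 := by
    intro χ s hs hχs
    have hint := Helper78.isIntegral_centralChar χ.2 x₀
    unfold centralChar at hint
    rw [hcent, ← hKidx, hχs, Helper79.irr_one χ] at hint
    have hd0 : charDegree (χ : G → ℂ) ≠ 0 := (Helper79.irr_charDegree_pos χ).ne'
    have h2 : (((((e * 22 : ℕ) : ℤ) * s : ℤ) : ℂ)) / ((charDegree (χ : G → ℂ) : ℕ) : ℂ) =
        ((e * 22 : ℕ) : ℂ) * (s : ℂ) / ((charDegree (χ : G → ℂ) : ℕ) : ℂ) := by
      push_cast
      ring
    rw [← h2] at hint
    have h3' := Helper25.NPCSimple.int_dvd_of_isIntegral_div' hd0 hint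
    have h4 : ((charDegree (χ : G → ℂ) : ℕ) : ℤ) ∣ ((e * 22 : ℕ) : ℤ) := by
      rcases hs with h | h
      · rw [h, mul_one] at h3'; exact h3'
      · rw [h, mul_neg, mul_one, dvd_neg] at h3'; exact h3'
    exact_mod_cast h4
  have hprB : Helper79.principalIrr G ∈ principalBlock M G :=
    Helper78.principalIrr_mem_principalBlock M hMp G
  have hpr1 : ((Helper79.principalIrr G : IrrCharacter G) : G → ℂ) 1 = 1 := rfl
  have hprx : ((Helper79.principalIrr G : IrrCharacter G) : G → ℂ) x₀ = 1 := rfl
  -- a nonprincipal character has degree bigger than one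
  have hdeg_gt : ∀ χ : IrrCharacter G, χ ≠ Helper79.principalIrr G →
      1 < charDegree (χ : G → ℂ) := by
    intro χ hne
    have hd1 : 1 ≤ charDegree (χ : G → ℂ) := Helper79.irr_charDegree_pos χ
    have hdne : charDegree (χ : G → ℂ) ≠ 1 := by
      intro h1
      apply hne
      apply Helper20.D8.eq_principal_of_degree_one hperf χ
      rw [Helper79.irr_one χ, h1]
      simp
    omega
  rw [hXY] at hprB
  have he12 : e = 1 ∨ e = 2 := by
    have : e ∣ 2 := hedvd
    exact (Nat.dvd_prime Nat.prime_two).mp this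
  rcases he12 with rfl | rfl
  · -- `e = 1`: `X` has one element, `Y` has two
    have hcX' : X.ncard = 1 := by rw [← Nat.card_coe_set_eq]; exact hcX
    have hcY' : Y.ncard = 2 := by
      rw [← Nat.card_coe_set_eq, hcY]
    obtain ⟨a, rfl⟩ := Set.ncard_eq_one.mp hcX'
    obtain ⟨b, c, hbc, rfl⟩ := Set.ncard_eq_two.mp hcY'
    rcases hprB with h | h
    · -- the principal character is `a`
      rw [Set.mem_singleton_iff] at h
      have hbY : b ∈ ({b, c} : Set (IrrCharacter G)) := Set.mem_insert _ _
      have h1 := hrel b hbY 1 hone_reg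
      rw [finsum_mem_singleton, ← h, hpr1, mul_one, Helper79.irr_one b] at h1
      have h1Z : ε * ((charDegree (b : G → ℂ) : ℕ) : ℤ) = εX (Helper79.principalIrr G) := by
        exact_mod_cast h1
      have haX : Helper79.principalIrr G ∈ ({a} : Set (IrrCharacter G)) := by
        rw [h]; exact Set.mem_singleton _
      have hs := (hX _ haX).1
      have hbne : b ≠ Helper79.principalIrr G := by
        intro hb
        apply Set.disjoint_left.mp hdisj haX
        rw [← hb]
        exact hbY
      have hbd := hdeg_gt b hbne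
      rcases hε with rfl | rfl <;> rcases hs with hs | hs <;> rw [hs] at h1Z <;> omega
    · -- the principal character lies in `Y`
      have key : ∀ θ ∈ ({b, c} : Set (IrrCharacter G)), θ = Helper79.principalIrr G := by
        intro θ hθ
        apply Helper20.D8.eq_principal_of_degree_one hperf θ
        rw [hYeq θ hθ _ h 1 hone_reg]
        exact hpr1
      apply hbc
      rw [key b (Set.mem_insert _ _), key c (Set.mem_insert_of_mem _ (Set.mem_singleton _))]
  · -- `e = 2`: `X` has two elements, `Y` has one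
    have hcY' : Y.ncard = 1 := by
      rw [← Nat.card_coe_set_eq, hcY]
    obtain ⟨c, rfl⟩ := Set.ncard_eq_one.mp hcY'
    have hcY0 : c ∈ ({c} : Set (IrrCharacter G)) := Set.mem_singleton _
    rcases hprB with h | h
    · -- the principal character lies in `X`
      obtain ⟨χ, hχne, rfl⟩ := killA_pair h hcX
      have hχX : χ ∈ ({Helper79.principalIrr G, χ} : Set (IrrCharacter G)) :=
        Set.mem_insert_of_mem _ (Set.mem_singleton _)
      have hεpr : εX (Helper79.principalIrr G) = 1 := by
        have h1 := hval _ h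
        rw [hprx] at h1
        exact_mod_cast h1.symm
      have hcne : c ≠ Helper79.principalIrr G := by
        intro hc
        apply Set.disjoint_left.mp hdisj h
        rw [← hc]
        exact hcY0
      -- the relation at `1`
      have h1 := hrel c hcY0 1 hone_reg
      rw [finsum_mem_pair hχne.symm, hεpr, hpr1, Helper79.irr_one c, Helper79.irr_one χ] at h1
      have h1Z : ε * ((charDegree (c : G → ℂ) : ℕ) : ℤ) =
          1 * 1 + εX χ * ((charDegree (χ : G → ℂ) : ℕ) : ℤ) := by
        exact_mod_cast h1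
      -- block orthogonality
      have hpp1 : IsPPart 3 x₀ x₀ :=
        ⟨1, mul_one _, Commute.one_right _, ⟨1, by rw [hx₀p, pow_one]⟩, hone_reg⟩
      have hpp2 : IsPPart 3 (1 : G) 1 :=
        ⟨1, mul_one _, Commute.one_right _, ⟨0, by rw [orderOf_one, pow_zero]⟩, hone_reg⟩
      have hnc : ¬ IsConj x₀ (1 : G) := by
        rw [isConj_one_left]
        exact hx₀1
      have hBO := Helper16.block_orthogonality hM x₀ 1 x₀ 1 hpp1 hpp2 hnc _
        (Helper78.isPBlock_principalBlock M G)
      rw [hXY, finsum_mem_union hdisj (Set.toFinite _) (Set.toFinite _),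
        finsum_mem_pair hχne.symm, finsum_mem_singleton, inv_one, hprx, hpr1, hval χ hχX,
        Helper79.irr_one c, Helper79.irr_one χ] at hBO
      have hcd0 : ((charDegree (c : G → ℂ) : ℕ) : ℂ) ≠ 0 := by
        exact_mod_cast (Helper79.irr_charDegree_pos c).ne'
      have hcx : (c : G → ℂ) x₀ = ((-ε : ℤ) : ℂ) := by
        have h5 : ((c : G → ℂ) x₀ + (ε : ℂ)) * ((charDegree (c : G → ℂ) : ℕ) : ℂ) = 0 := by
          linear_combination hBO + h1
        rcases mul_eq_zero.mp h5 with h6 | h6
        · push_cast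
          linear_combination h6
        · exact absurd h6 hcd0
      have hnegε : (-ε = 1 ∨ -ε = -1) := by
        rcases hε with rfl | rfl
        · right; rfl
        · left; rfl
      have hdc := hdvd' c (-ε) hnegε hcx
      have hdχ := hdvd' χ (εX χ) (hX χ hχX).1 (hval χ hχX)
      refine killA_arith _ _ ε (-εX χ) 1 hdc hdχ (hdeg_gt c hcne) (hdeg_gt χ hχne) hε ?_
        (Or.inl rfl) ?_
      · rcases (hX χ hχX).1 with h7 | h7 <;> rw [h7]
        · right; rfl
        · left; rfl
      · linarith
    · -- the principal character is `c`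
      rw [Set.mem_singleton_iff] at h
      have hcX' : X.ncard = 2 := by rw [← Nat.card_coe_set_eq]; exact hcX
      obtain ⟨a, b, hab, rfl⟩ := Set.ncard_eq_two.mp hcX'
      have haX : a ∈ ({a, b} : Set (IrrCharacter G)) := Set.mem_insert _ _
      have hbX : b ∈ ({a, b} : Set (IrrCharacter G)) :=
        Set.mem_insert_of_mem _ (Set.mem_singleton _)
      have hane : a ≠ Helper79.principalIrr G := by
        intro ha
        apply Set.disjoint_left.mp hdisj haX
        rw [ha, h]
        exact hcY0
      have hbne : b ≠ Helper79.principalIrr G := by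
        intro hb
        apply Set.disjoint_left.mp hdisj hbX
        rw [hb, h]
        exact hcY0
      have h1 := hrel c hcY0 1 hone_reg
      rw [finsum_mem_pair hab, ← h, hpr1, Helper79.irr_one a, Helper79.irr_one b] at h1
      have h1Z : ε * 1 = εX a * ((charDegree (a : G → ℂ) : ℕ) : ℤ) +
          εX b * ((charDegree (b : G → ℂ) : ℕ) : ℤ) := by
        exact_mod_cast h1
      have hda := hdvd' a (εX a) (hX a haX).1 (hval a haX)
      have hdb := hdvd' b (εX b) (hX b hbX).1 (hval b hbX)
      refine killA_arith _ _ (εX a) (εX b) ε hda hdb (hdeg_gt a hane) (hdeg_gt b hbne)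
        (hX a haX).1 (hX b hbX).1 hε ?_
      linarith

end Cfsg.Agent.Helper95.S22
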