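import Cfsg.Agent.Helper95.S22.Lines
import Cfsg.Agent.Helper95.S22.Flag

set_option autoImplicit false
set_option linter.unusedSectionVars false

open scoped Classical Pointwise

namespace Cfsg.Agent.Helper95.S22

open Cfsg.Agent.Helper70.Syl

variable {G : Type*} [Group G] [Finite G]

/-- the image of a line under `g` is the line through the images -/
theorem LineDvd_image_line (g : G) (c d : Sylow 3 G) :
    (line c d).image (fun x => g • x) = line (g • c) (g • d) := by
  ext x
  rw [Finset.mem_image]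
  constructor
  · rintro ⟨y, hy, rfl⟩
    exact (smul_mem_line_smul_iff g).2 hy
  · intro hx
    refine ⟨g⁻¹ • x, ?_, smul_inv_smul g x⟩
    have h1 : g • (g⁻¹ • x) ∈ line (g • c) (g • d) := by
      rw [smul_inv_smul]
      exact hx
    exact (smul_mem_line_smul_iff g).1 h1

/-- the family of all lines with `k` points -/
noncomputable def LineDvd_family (G : Type*) [Group G] [Finite G] (k : ℕ) :
    Finset (Finset (Sylow 3 G)) :=
  haveI : Fintype (Sylow 3 G) := Fintype.ofFinite _
  Finset.univ.filter (fun ℓ : Finset (Sylow 3 G) =>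
    (∃ c d : Sylow 3 G, Adj c d ∧ line c d = ℓ) ∧ ℓ.card = k)

theorem LineDvd_mem_family {k : ℕ} {ℓ : Finset (Sylow 3 G)} :
    ℓ ∈ LineDvd_family G k ↔ (∃ c d : Sylow 3 G, Adj c d ∧ line c d = ℓ) ∧ ℓ.card = k := by
  simp [LineDvd_family]

/-- (Lemma C) `k` divides `|Ω|` times the number of lines of size `k` through `α` -/
theorem dvd_lines (α : Sylow 3 G) (k : ℕ) :
    k ∣ Nat.card (Sylow 3 G) * ((linesAt α).filter (fun ℓ => ℓ.card = k)).card := by
  have : Fact (Nat.Prime 3) := ⟨Nat.prime_three⟩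
  have hinv : ∀ g : G, ∀ ℓ ∈ LineDvd_family G k,
      ℓ.image (fun x => g • x) ∈ LineDvd_family G k := by
    intro g ℓ hℓ
    rw [LineDvd_mem_family] at hℓ ⊢
    obtain ⟨⟨c, d, hcd, rfl⟩, hk⟩ := hℓ
    refine ⟨⟨g • c, g • d, (adj_smul_iff g).2 hcd, (LineDvd_image_line g c d).symm⟩, ?_⟩
    rw [Finset.card_image_of_injective _ (MulAction.injective g), hk]
  have hk : ∀ ℓ ∈ LineDvd_family G k, ℓ.card = k := fun ℓ hℓ => (LineDvd_mem_family.1 hℓ).2
  have hflag := flag_count (G := G) (Ω := Sylow 3 G) (LineDvd_family G k) hinv k hk α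
  have heq : (LineDvd_family G k).filter (fun ℓ => α ∈ ℓ) =
      (linesAt α).filter (fun ℓ => ℓ.card = k) := by
    ext ℓ
    rw [Finset.mem_filter, Finset.mem_filter, LineDvd_mem_family, mem_linesAt]
    constructor
    · rintro ⟨⟨⟨c, d, hcd, rfl⟩, hk⟩, hα⟩
      refine ⟨?_, hk⟩
      -- a second point of the line
      have h4 := four_le_card_line hcd
      have h2 : 1 < (line c d).card := by omega
      obtain ⟨β, hβ, hβα⟩ := Finset.exists_mem_ne h2 α
      exact ⟨β, adj_of_mem_line hcd hα hβ hβα.symm, line_eq_of_mem_line hcd hα hβ hβα.symm⟩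
    · rintro ⟨⟨β, hαβ, rfl⟩, hk⟩
      exact ⟨⟨⟨α, β, hαβ, rfl⟩, hk⟩, left_mem_line α β⟩
  rw [heq] at hflag
  exact ⟨_, hflag.symm⟩

end Cfsg.Agent.Helper95.S22
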