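import Cfsg.Agent.Helper95.S22.Lines

set_option autoImplicit false
set_option linter.unusedSectionVars false

open scoped Classical Pointwise

namespace Cfsg.Agent.Helper95.S22

open Cfsg.Agent.Helper70.Syl

variable {G : Type*} [Group G] [Finite G]

/-- the neighbours of `α` are the points `≠ α` of the lines through `α` -/
theorem nbr_eq_biUnion (α : Sylow 3 G) :
    nbr α = (linesAt α).biUnion (fun ℓ => ℓ.erase α) := by
  ext δ
  rw [mem_nbr, Finset.mem_biUnion]
  constructor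
  · intro h
    refine ⟨line α δ, mem_linesAt.2 ⟨δ, h, rfl⟩, ?_⟩
    rw [Finset.mem_erase]
    exact ⟨fun e => h.ne e.symm, right_mem_line α δ⟩
  · rintro ⟨ℓ, hℓ, hδ⟩
    obtain ⟨β, hβ, rfl⟩ := mem_linesAt.1 hℓ
    rw [Finset.mem_erase] at hδ
    exact adj_of_mem_line hβ (left_mem_line α β) hδ.2 (fun e => hδ.1 e.symm)

/-- the lines through `α` partition the neighbours of `α` -/
theorem card_nbr_eq_sum (α : Sylow 3 G) :
    (nbr α).card = ∑ ℓ ∈ linesAt α, (ℓ.card - 1) := by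
  rw [nbr_eq_biUnion, Finset.card_biUnion]
  · apply Finset.sum_congr rfl
    intro ℓ hℓ
    obtain ⟨β, _, rfl⟩ := mem_linesAt.1 hℓ
    exact Finset.card_erase_of_mem (left_mem_line α β)
  · intro ℓ₁ h₁ ℓ₂ h₂ hne
    obtain ⟨β, hβ, rfl⟩ := mem_linesAt.1 h₁
    obtain ⟨γ, hγ, rfl⟩ := mem_linesAt.1 h₂
    show Disjoint ((line α β).erase α) ((line α γ).erase α)
    rw [Finset.disjoint_left]
    intro δ hδ1 hδ2
    rw [Finset.mem_erase] at hδ1 hδ2
    exact hδ1.1 (eq_of_mem_line_of_mem_line hβ hγ hne hδ1.2 hδ2.2)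

end Cfsg.Agent.Helper95.S22
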