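import Cfsg.Agent.Helper95.S22.Count
import Cfsg.Agent.Helper95.S22.LineSum
import Cfsg.Agent.Helper95.S22.LineDvd

set_option autoImplicit false
set_option linter.unusedSectionVars false

open scoped Classical Pointwise

namespace Cfsg.Agent.Helper95.S22

open Cfsg.Agent.Helper70.Syl

variable {G : Type*} [Group G] [Finite G]

/-- the number of neighbours is at most `21` -/
theorem card_nbr_le (h22 : Nat.card (Sylow 3 G) = 22) (α : Sylow 3 G) : (nbr α).card ≤ 21 := by
  rcases card_nbr_cases h22 α with h | h | h <;> omega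

/-- `(k - 1) * r ≤ |nbr α|` where `r` is the number of lines of size `k` through `α` -/
theorem pred_mul_card_filter_le (α : Sylow 3 G) (k : ℕ) :
    (k - 1) * ((linesAt α).filter (fun ℓ => ℓ.card = k)).card ≤ (nbr α).card := by
  rw [card_nbr_eq_sum]
  calc (k - 1) * ((linesAt α).filter (fun ℓ => ℓ.card = k)).card
      = ∑ ℓ ∈ (linesAt α).filter (fun ℓ => ℓ.card = k), (ℓ.card - 1) := by
        rw [Finset.sum_congr rfl (g := fun _ => k - 1), Finset.sum_const, smul_eq_mul, mul_comm]
        intro ℓ hℓ
        rw [(Finset.mem_filter.1 hℓ).2]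
    _ ≤ ∑ ℓ ∈ linesAt α, (ℓ.card - 1) :=
        Finset.sum_le_sum_of_subset (Finset.filter_subset _ _)

/-- a line has `4` or `22` points -/
theorem card_line_cases (h22 : Nat.card (Sylow 3 G) = 22) {α β : Sylow 3 G} (h : Adj α β) :
    (line α β).card = 4 ∨ (line α β).card = 22 := by
  have hmem : line α β ∈ linesAt α := mem_linesAt.2 ⟨β, h, rfl⟩
  set k := (line α β).card with hk
  set r := ((linesAt α).filter (fun ℓ => ℓ.card = k)).card with hr
  have hr1 : 1 ≤ r := by
    rw [hr]
    exact Finset.card_pos.2 ⟨line α β, Finset.mem_filter.2 ⟨hmem, rfl⟩⟩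
  have h1 : (k - 1) * r ≤ 21 := (pred_mul_card_filter_le α k).trans (card_nbr_le h22 α)
  have h2 : k ∣ 22 * r := by
    have := dvd_lines α k
    rwa [h22] at this
  have h3 : k % 3 = 1 := card_line_mod h
  have h4 : 4 ≤ k := four_le_card_line h
  have hk22 : k ≤ 22 := by
    have : (k - 1) * 1 ≤ (k - 1) * r := Nat.mul_le_mul_left _ hr1
    omega
  have hr21 : r ≤ 7 := by
    have : 3 * r ≤ (k - 1) * r := Nat.mul_le_mul_right _ (by omega)
    omega
  clear_value k r
  interval_cases k <;> omega

/-- either the Sylow `3`-subgroups have order `3`, or we are in case (B) -/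
theorem lines_dichotomy [IsSimpleGroup G] (h22 : Nat.card (Sylow 3 G) = 22) :
    (∀ P : Sylow 3 G, Nat.card (P : Subgroup G) = 3) ∨ CaseB G := by
  by_cases hex : ∃ α β : Sylow 3 G, Adj α β ∧ (line α β).card = 22
  · left
    obtain ⟨α, β, hαβ, hc⟩ := hex
    have hle : ∀ R : Sylow 3 G, (α : Subgroup G) ⊓ β ≤ R := by
      apply above_eq_univ_of_card
      rw [h22]
      exact hc
    have hbot : (α : Subgroup G) ⊓ β = ⊥ :=
      eq_bot_of_forall_le (by rw [h22]; norm_num) _ hle
    have hα : Nat.card (α : Subgroup G) = 3 := by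
      have := hαβ
      unfold Adj at this
      rw [hbot, Subgroup.card_bot] at this
      omega
    intro P
    rw [card_sylow_eq P α, hα]
  · right
    have h4 : ∀ α β : Sylow 3 G, Adj α β → (line α β).card = 4 := by
      intro α β h
      rcases card_line_cases h22 h with h' | h'
      · exact h'
      · exact absurd ⟨α, β, h, h'⟩ hex
    have hkey : ∀ α : Sylow 3 G, (nbr α).card = 12 ∧ (farSet α).card = 9 := by
      intro α
      have hall : ∀ ℓ ∈ linesAt α, ℓ.card = 4 := by
        intro ℓ hℓ
        obtain ⟨β, hβ, rfl⟩ := mem_linesAt.1 hℓ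
        exact h4 α β hβ
      have hsum : (nbr α).card = 3 * (linesAt α).card := by
        rw [card_nbr_eq_sum, Finset.sum_congr rfl (g := fun _ => 3), Finset.sum_const,
          smul_eq_mul, mul_comm]
        intro ℓ hℓ
        rw [hall ℓ hℓ]
      have hfil : (linesAt α).filter (fun ℓ => ℓ.card = 4) = linesAt α :=
        Finset.filter_true_of_mem hall
      have hdvd : 4 ∣ 22 * (linesAt α).card := by
        have := dvd_lines α 4
        rwa [h22, hfil] at this
      rcases card_nbr_cases h22 α with h | h | h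
      · exfalso; omega
      · exact h
      · exfalso; omega
    exact ⟨h22, fun α => (hkey α).1, fun α => (hkey α).2, h4⟩

end Cfsg.Agent.Helper95.S22
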