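import Cfsg.Agent.Helper95.S22.Basic

set_option autoImplicit false
set_option linter.unusedSectionVars false

open scoped Classical Pointwise

namespace Cfsg.Agent.Helper95.S22

open Cfsg.Agent.Helper70.Syl

variable {G : Type*} [Group G] [Finite G]

theorem left_mem_line (α β : Sylow 3 G) : α ∈ line α β :=
  mem_line.mpr inf_le_left

theorem right_mem_line (α β : Sylow 3 G) : β ∈ line α β :=
  mem_line.mpr inf_le_right

theorem lines_line_comm (α β : Sylow 3 G) : line α β = line β α := by
  unfold line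
  rw [inf_comm]

/-- two Sylow subgroups one of which contains the other are equal -/
theorem lines_sylow_eq_of_le {γ δ : Sylow 3 G} (h : (γ : Subgroup G) ≤ δ) : γ = δ :=
  (Sylow.ext (γ.is_maximal' δ.isPGroup' h)).symm

/-- (L1) two distinct points of a line meet exactly in the subgroup defining the line -/
theorem inf_eq_of_mem_line {α β γ δ : Sylow 3 G} (h : Adj α β) (hγ : γ ∈ line α β)
    (hδ : δ ∈ line α β) (hne : γ ≠ δ) :
    (γ : Subgroup G) ⊓ δ = (α : Subgroup G) ⊓ β := by
  rw [mem_line] at hγ hδ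
  set D : Subgroup G := (α : Subgroup G) ⊓ β with hD
  set E : Subgroup G := (γ : Subgroup G) ⊓ δ with hE
  have hDE : D ≤ E := le_inf hγ hδ
  have hEγ : E ≤ γ := inf_le_left
  have hcardγ : Nat.card (γ : Subgroup G) = Nat.card D * 3 := by
    rw [card_sylow_eq γ α]
    exact Eq.symm h
  have hd1 : Nat.card D ∣ Nat.card E := Subgroup.card_dvd_of_le hDE
  have hd2 : Nat.card E ∣ Nat.card D * 3 := by
    rw [← hcardγ]
    exact Subgroup.card_dvd_of_le hEγ
  obtain ⟨m, hm⟩ := hd1
  have hDpos : 0 < Nat.card D := Nat.card_pos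
  have hm3 : m ∣ 3 := by
    rw [hm] at hd2
    exact Nat.dvd_of_mul_dvd_mul_left hDpos hd2
  have hmcases : m = 1 ∨ m = 3 := (Nat.dvd_prime Nat.prime_three).mp hm3
  rcases hmcases with rfl | rfl
  · rw [mul_one] at hm
    exact (Subgroup.eq_of_le_of_card_ge hDE (le_of_eq hm)).symm
  · exfalso
    apply hne
    have hEeq : E = γ := Subgroup.eq_of_le_of_card_ge hEγ (by rw [hcardγ, hm])
    apply lines_sylow_eq_of_le
    rw [← hEeq]
    exact inf_le_right

theorem adj_of_mem_line {α β γ δ : Sylow 3 G} (h : Adj α β) (hγ : γ ∈ line α β)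
    (hδ : δ ∈ line α β) (hne : γ ≠ δ) : Adj γ δ := by
  unfold Adj
  rw [inf_eq_of_mem_line h hγ hδ hne, card_sylow_eq γ α]
  exact h

theorem line_eq_of_mem_line {α β γ δ : Sylow 3 G} (h : Adj α β) (hγ : γ ∈ line α β)
    (hδ : δ ∈ line α β) (hne : γ ≠ δ) : line γ δ = line α β := by
  unfold line
  rw [inf_eq_of_mem_line h hγ hδ hne]

/-- (L2) a line has `≡ 1 mod 3` points -/
theorem card_line_mod {α β : Sylow 3 G} (h : Adj α β) : (line α β).card % 3 = 1 := by
  have h1 := card_above_modEq (p := 3) α ((α : Subgroup G) ⊓ β) inf_le_left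
    (le_normalizer_of_adj h)
  exact h1

theorem four_le_card_line {α β : Sylow 3 G} (h : Adj α β) : 4 ≤ (line α β).card := by
  have h1 := card_line_mod h
  have h2 : 2 ≤ (line α β).card := by
    have hsub : ({α, β} : Finset (Sylow 3 G)) ⊆ line α β := by
      intro x hx
      rw [Finset.mem_insert, Finset.mem_singleton] at hx
      rcases hx with rfl | rfl
      · exact left_mem_line _ _
      · exact right_mem_line _ _
    have := Finset.card_le_card hsub
    rwa [Finset.card_pair h.ne] at this
  omega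

/-- a line through `α` is invariant under `α` -/
theorem smul_mem_line {α β γ : Sylow 3 G} (h : Adj α β) {g : G} (hg : g ∈ (α : Subgroup G))
    (hγ : γ ∈ line α β) : g • γ ∈ line α β :=
  above_invariant (p := 3) α ((α : Subgroup G) ⊓ β) (le_normalizer_of_adj h) g hg γ hγ

/-- `G` permutes the lines -/
theorem smul_mem_line_smul_iff (g : G) {α β γ : Sylow 3 G} :
    g • γ ∈ line (g • α) (g • β) ↔ γ ∈ line α β := by
  rw [mem_line, mem_line, Sylow.coe_subgroup_smul, Sylow.coe_subgroup_smul,
    Sylow.coe_subgroup_smul, ← Subgroup.smul_inf]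
  exact Subgroup.pointwise_smul_le_pointwise_smul_iff

/-- two distinct lines through `α` meet only in `α` -/
theorem eq_of_mem_line_of_mem_line {α β γ δ : Sylow 3 G} (h1 : Adj α β) (h2 : Adj α γ)
    (hne : line α β ≠ line α γ) (hδ1 : δ ∈ line α β) (hδ2 : δ ∈ line α γ) : δ = α := by
  by_contra hδα
  apply hne
  have e1 := line_eq_of_mem_line h1 (left_mem_line α β) hδ1 (Ne.symm hδα)
  have e2 := line_eq_of_mem_line h2 (left_mem_line α γ) hδ2 (Ne.symm hδα)
  rw [← e1, ← e2]

/-- if all lines have `4` points, then `line α β` minus `α` is the `α`-orbit of `β` -/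
theorem orbit_eq_of_card_line {α β : Sylow 3 G} (h : Adj α β) (h4 : (line α β).card = 4)
    {γ : Sylow 3 G} (hγ : γ ∈ line α β) (hγα : γ ≠ α) :
    ∃ g ∈ (α : Subgroup G), g • β = γ := by
  set S : Finset (Sylow 3 G) := (line α β).erase α with hS
  have hScard : S.card = 3 := by
    rw [hS, Finset.card_erase_of_mem (left_mem_line α β), h4]
  set O : Set (Sylow 3 G) := MulAction.orbit (α : Subgroup G) β with hO
  have hOcard : O.ncard = 3 := by
    rw [← Nat.card_coe_set_eq]
    exact card_orbit_of_adj h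
  have hsub : O ⊆ (S : Set (Sylow 3 G)) := by
    rintro x ⟨g, rfl⟩
    rw [Finset.mem_coe, hS, Finset.mem_erase]
    constructor
    · intro hx
      apply h.ne
      have hgα : (g : G) • α = α := by
        rw [Sylow.smul_eq_iff_mem_normalizer]
        exact Subgroup.le_normalizer g.2
      have hx' : (g : G) • β = (g : G) • α := by
        rw [hgα]
        exact hx
      exact (smul_left_cancel _ hx').symm
    · exact smul_mem_line h g.2 (right_mem_line α β)
  have hEq : O = (S : Set (Sylow 3 G)) := by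
    apply Set.eq_of_subset_of_ncard_le hsub
    · rw [Set.ncard_coe_finset, hScard, hOcard]
  have hγS : γ ∈ (S : Set (Sylow 3 G)) := by
    rw [Finset.mem_coe, hS, Finset.mem_erase]
    exact ⟨hγα, hγ⟩
  rw [← hEq] at hγS
  obtain ⟨g, hg⟩ := hγS
  exact ⟨(g : G), g.2, hg⟩

end Cfsg.Agent.Helper95.S22
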