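import Cfsg.Agent.Helper95.S22.LineSizes
import Cfsg.Agent.Helper95.S22.CaseBCard
import Cfsg.Agent.Helper95.S22.CaseBCent
import Cfsg.Agent.Helper95.S22.CaseBOrder
import Cfsg.Agent.Helper95.S22.Eleven2
import Cfsg.Agent.Helper95.S22.Kill3168
import Cfsg.Agent.Helper95.S22.KillA

set_option autoImplicit false
set_option linter.unusedSectionVars false

namespace Cfsg.Agent.Helper95.S22

variable {G : Type*} [Group G] [Finite G]

/-- a finite simple group never has exactly `22` Sylow `3`-subgroups -/
theorem simple_ne_22 [IsSimpleGroup G] : Nat.card (Sylow 3 G) ≠ 22 := by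
  intro h22
  obtain ⟨P⟩ : Nonempty (Sylow 3 G) := inferInstance
  rcases lines_dichotomy h22 with h3 | hB
  · exact false_of_card_three h22 P (h3 P)
  · obtain ⟨h9, hnc⟩ := caseB_card hB P
    have hC := caseB_centralizer hB P h9
    obtain ⟨a, ha, hG⟩ := card_eq_of_self_centralizing h22 P h9 hnc hC
    haveI : Fact (Nat.Prime 11) := ⟨by norm_num⟩
    obtain ⟨hG', he⟩ := sylow_eleven h22 a ha hG
    obtain ⟨Q⟩ : Nonempty (Sylow 11 G) := inferInstance
    exact false_of_card_3168 hG' Q (he Q).1 (he Q).2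

end Cfsg.Agent.Helper95.S22
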